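import Cfsg.Agent.Lib.DefectZero.Richen
import Cfsg.Agent.Lib.Chev.Struct
import Cfsg.Agent.Lib.BNSteinberg.Chevalley
import Cfsg.Agent.Lib.Char.PermChar

/-!
# Characters of defect zero of a finite Chevalley group

The Steinberg character is the only irreducible character of `p`-defect zero.
-/

set_option autoImplicit false
set_option linter.unusedSectionVars false
set_option linter.style.haveILetI false

noncomputable section

namespace CfsgLib.DefectZero

open Cfsg.Lie CfsgLib.Chev
open scoped ComplexConjugate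

universe v

variable {D : ChevalleyDatum} {co : ℕ → ℕ → ℤ} {K : Type v} [Field K]

section Neg

variable (hF : Facts D co) (hC : CommF.{v} D)
include hF hC

theorem simple_normalizer_neg (i : Fin D.rank) :
    rootClosure D K (· = D.neg (D.simple i.val)) ≤ Subgroup.normalizer
      (rootClosure D K (fun s => s < D.nroots / 2 ∧ s ≠ D.neg (D.simple i.val)) :
        Set (GL D.Idx K)) := by
  refine hF.le_normalizer_rootClosure hC fun a ha hae j hj hjp => ?_
  subst hae
  have hne : D.neg j ≠ D.simple i.val := fun e => hjp.2 (by rw [← e, hF.neg_neg hj])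
  obtain ⟨m, hm, hmi, hpos⟩ := hF.exists_co_pos i.isLt (hF.neg_lt hj)
    ((hF.neg_lt_half hj).2 hjp.1) hne
  rw [hF.co_neg j hj m hm] at hpos
  have ha0 : co (D.neg (D.simple i.val)) m = 0 := by
    rw [hF.co_neg _ (hF.simple_lt' i.isLt) m hm, hF.co_simple i.val i.isLt m hm,
      if_neg (Ne.symm hmi), neg_zero]
  refine ⟨fun e => ?_, fun _ c hc => ?_⟩
  · rw [e, hF.co_neg _ ha m hm, ha0] at hpos; omega
  · obtain ⟨hc1, -, hc2, hw⟩ := hF.commTerms_wt (hF.isWeight_co hm) ha hj hc
    simp only [ha0, smul_zero, zero_add, nsmul_eq_mul] at hw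
    have hcn : co c.1 m < 0 := by
      rw [hw]
      exact mul_neg_of_pos_of_neg (by exact_mod_cast hc2) (by omega)
    refine ⟨?_, fun e => ?_⟩
    · by_contra hn
      have h1 := hF.co_nonneg _ hc1 (by omega) m hm
      omega
    · rw [e, ha0] at hcn; omega

theorem neg_decomp (i : Fin D.rank) {u : GL D.Idx K}
    (hu : u ∈ rootClosure D K (· < D.nroots / 2)) :
    ∃ u' ∈ rootClosure D K (fun s => s < D.nroots / 2 ∧ s ≠ D.neg (D.simple i.val)), ∃ a : K,
      u = u' * xU D (D.neg (D.simple i.val)) a := by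
  have hp := hF.neg_lt (hF.simple_lt' i.isLt)
  set P := fun s => s < D.nroots / 2 ∧ s ≠ D.neg (D.simple i.val)
  have hnorm : ∀ a : K, ∀ x ∈ rootClosure D K P,
      xU D (D.neg (D.simple i.val)) a * x * (xU D (D.neg (D.simple i.val)) a)⁻¹ ∈
        rootClosure D K P := fun a x hx =>
    (Subgroup.mem_normalizer_iff.1 (simple_normalizer_neg hF hC i
      (xU_mem_rootClosure (P := (· = D.neg (D.simple i.val))) hp rfl a)) x).1 hx
  induction hu using Subgroup.closure_induction with
  | mem x hx =>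
    obtain ⟨r, t, hr, hp', rfl⟩ := hx
    by_cases h : r = D.neg (D.simple i.val)
    · exact ⟨1, Subgroup.one_mem _, t, by rw [h, one_mul]⟩
    · exact ⟨_, xU_mem_rootClosure hr ⟨hp', h⟩ t, 0, by rw [hF.xU_zero hp, mul_one]⟩
  | one => exact ⟨1, Subgroup.one_mem _, 0, by rw [hF.xU_zero hp, one_mul]⟩
  | mul x y _ _ hx hy =>
    obtain ⟨x', hx', a, rfl⟩ := hx
    obtain ⟨y', hy', b, rfl⟩ := hy
    refine ⟨x' * (xU D (D.neg (D.simple i.val)) a * y' * (xU D (D.neg (D.simple i.val)) a)⁻¹),
      Subgroup.mul_mem _ hx' (hnorm a y' hy'), a + b, ?_⟩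
    rw [← hF.xU_add hp]; group
  | inv x _ hx =>
    obtain ⟨x', hx', a, rfl⟩ := hx
    refine ⟨xU D (D.neg (D.simple i.val)) (-a) * x'⁻¹ * (xU D (D.neg (D.simple i.val)) (-a))⁻¹,
      hnorm (-a) _ (Subgroup.inv_mem _ hx'), -a, ?_⟩
    rw [← hF.xU_inv hp]; group

end Neg

variable (hF : Facts D co) (hC : CommF.{v} D)
include hF hC

/-- The split configuration of a Chevalley group. -/
def chevData [Finite K] (p : ℕ) [Fact p.Prime] [CharP K p] :
    SplitData p ↥(D.group K) K (Fin D.rank) where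
  U := (D.posUnipotent K).subgroupOf (D.group K)
  V := (rootClosure D K (· < D.nroots / 2)).subgroupOf (D.group K)
  T := (D.diagonalSubgroup K).subgroupOf (D.group K)
  B := (D.borelSubgroup K).subgroupOf (D.group K)
  N := (D.monomialSubgroup K).subgroupOf (D.group K)
  U' i := (rootClosure D K (fun s => D.nroots / 2 ≤ s ∧ s ≠ D.simple i.val)).subgroupOf (D.group K)
  x i t := ⟨xU D (D.simple i.val) t, hF.xU_mem_group (hF.simple_lt' i.isLt) t⟩
  y i t := ⟨xU D (D.neg (D.simple i.val)) t,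
    hF.xU_mem_group (hF.neg_lt (hF.simple_lt' i.isLt)) t⟩
  h i := (hF.hHom (hF.simple_lt' i.isLt)).codRestrict (D.group K) fun a =>
    hF.diagonal_le_group (hF.hU_mem_diagonal (hF.simple_lt' i.isLt) (Units.ne_zero a))
  n i := ⟨nS D K i, hF.monomial_le_group (hF.nS_mem i)⟩
  U_pgroup := (CfsgLib.BNSteinberg.split hF hC p).pgroup
  V_pgroup := by
    obtain ⟨n, -, hn⟩ := hF.exists_opposite (F := K)
    rw [hF.negUnipotent_eq] at hn
    have hVG : rootClosure D K (· < D.nroots / 2) ≤ D.group K := by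
      rw [hF.group_eq]; exact rootClosure_mono fun _ _ _ => trivial
    have hUG : D.posUnipotent K ≤ D.group K := by
      rw [hF.posUnipotent_eq]; exact hF.pos_le_group
    refine IsPGroup.of_card (n := (Nat.card ↥(D.group K)).factorization p) ?_
    rw [← (CfsgLib.BNSteinberg.split hF hC p).card_pow,
      Nat.card_congr (Subgroup.subgroupOfEquivOfLe hVG).toEquiv,
      Nat.card_congr (Subgroup.subgroupOfEquivOfLe hUG).toEquiv, ← hn,
      Subgroup.card_map_of_injective (MulAut.conj n).injective]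
  card_V := by
    obtain ⟨n, -, hn⟩ := hF.exists_opposite (F := K)
    rw [hF.negUnipotent_eq] at hn
    have hVG : rootClosure D K (· < D.nroots / 2) ≤ D.group K := by
      rw [hF.group_eq]; exact rootClosure_mono fun _ _ _ => trivial
    have hUG : D.posUnipotent K ≤ D.group K := by
      rw [hF.posUnipotent_eq]; exact hF.pos_le_group
    rw [Nat.card_congr (Subgroup.subgroupOfEquivOfLe hVG).toEquiv,
      Nat.card_congr (Subgroup.subgroupOfEquivOfLe hUG).toEquiv, ← hn,
      Subgroup.card_map_of_injective (MulAut.conj n).injective]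
  card_U := (CfsgLib.BNSteinberg.split hF hC p).card_pow
  mem_B b := by
    show (b : GL D.Idx K) ∈ D.borelSubgroup K ↔ _
    rw [hF.mem_borel_iff]
    constructor
    · rintro ⟨u, hu, h, hh, e⟩
      exact ⟨⟨u, hF.pos_le_group hu⟩, ((hF.posUnipotent_eq (F := K)).symm ▸ hu : u ∈ D.posUnipotent K),
        ⟨h, hF.diagonal_le_group hh⟩, hh, Subtype.ext e⟩
    · rintro ⟨u, hu, h, hh, rfl⟩
      refine ⟨u, ?_, h, hh, rfl⟩
      rw [← hF.posUnipotent_eq]; exact hu
  cells g := by
    obtain ⟨m, hm, hg⟩ := CfsgLib.Chev.BN.exists_cell (P := hF.bnPair hC (K := K)) g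
    obtain ⟨a, ha, c, hc, e⟩ := CfsgLib.Chev.BN.mem_cell.1 hg
    exact ⟨a, ha, m, hm, c, hc, e⟩
  T_comm a ha b hb := by
    obtain ⟨c, ec⟩ := hF.mem_diagonal_iff.1 ha
    obtain ⟨d, ed⟩ := hF.mem_diagonal_iff.1 hb
    refine Subtype.ext ?_
    simp only [Subgroup.coe_mul, Subgroup.subtype_apply] at ec ed ⊢
    rw [ec, ed]
    exact (dU_commute _ _).eq
  N_T m hm t ht := by
    show (m : GL D.Idx K) * t * (m : GL D.Idx K)⁻¹ ∈ D.diagonalSubgroup K
    obtain ⟨σ, hσ⟩ := hF.exists_permAct hm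
    refine hF.mem_diagonal_of_permAct (Subgroup.mul_mem _ (Subgroup.mul_mem _ hm
      (Subgroup.mem_sup_left ht)) (Subgroup.inv_mem _ hm)) ?_
    simpa using hF.permAct_mul (hF.permAct_mul hσ (hF.permAct_diagonal ht))
      (hF.permAct_inv hm hσ)
  T_U t ht u hu := by
    show (t : GL D.Idx K) * u * (t : GL D.Idx K)⁻¹ ∈ D.posUnipotent K
    rw [hF.posUnipotent_eq]
    refine (Subgroup.mem_normalizer_iff.1 (hF.diagonal_le_normalizer _ ht) _).1 ?_
    rw [← hF.posUnipotent_eq]; exact hu
  T_V t ht u hu :=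
    (Subgroup.mem_normalizer_iff.1 (hF.diagonal_le_normalizer _ ht) (u : GL D.Idx K)).1 hu
  n_mem i := hF.nS_mem i
  rankOne i :=
    { x_add := fun s t => Subtype.ext ((hF.rankOne (F := K) (hF.simple_lt' i.isLt)).x_add s t)
      y_add := fun s t => Subtype.ext ((hF.rankOne (F := K) (hF.simple_lt' i.isLt)).y_add s t)
      hx := fun a t => Subtype.ext ((hF.rankOne (F := K) (hF.simple_lt' i.isLt)).hx a t)
      key := fun u => Subtype.ext ((hF.rankOne (F := K) (hF.simple_lt' i.isLt)).key u)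
      nx := fun t => Subtype.ext ((hF.rankOne (F := K) (hF.simple_lt' i.isLt)).nx t)
      sq := Subtype.ext (hF.rankOne (F := K) (hF.simple_lt' i.isLt)).sq }
  x_mem i a := by
    show xU D (D.simple i.val) a ∈ D.posUnipotent K
    rw [hF.posUnipotent_eq]
    exact xU_mem_rootClosure (hF.simple_lt' i.isLt) (hF.simple_lt i.val i.isLt).1 a
  y_mem i a := xU_mem_rootClosure (hF.neg_lt (hF.simple_lt' i.isLt))
    (by
      have := (hF.simple_lt i.val i.isLt).1
      have := hF.neg_lt_half (hF.simple_lt' i.isLt)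
      omega) a
  h_mem i a := hF.hU_mem_diagonal (hF.simple_lt' i.isLt) (Units.ne_zero a)
  T_gen := by
    intro g hg
    obtain ⟨c, ec⟩ := hF.mem_diagonal_iff.1 hg
    refine (Subgroup.mem_map_iff_mem (f := (D.group K).subtype) Subtype.val_injective).1 ?_
    rw [MonoidHom.map_closure]
    simp only [Subgroup.subtype_apply] at ec ⊢
    rw [ec, hF.hT_eq_list]
    refine Subgroup.list_prod_mem _ fun z hz => Subgroup.subset_closure ?_
    obtain ⟨i, hi, rfl⟩ := List.mem_map.1 hz
    exact ⟨_, Set.mem_iUnion.2 ⟨⟨i, List.mem_range.1 hi⟩, c i, rfl⟩, rfl⟩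
  U'_le i := by
    intro u hu
    show (u : GL D.Idx K) ∈ D.posUnipotent K
    rw [hF.posUnipotent_eq]
    exact rootClosure_mono (fun _ _ h => h.1) hu
  U_decomp i u hu := by
    obtain ⟨u', hu', a, e⟩ := hF.pos_decomp hC i
      (show (u : GL D.Idx K) ∈ rootClosure D K (D.nroots / 2 ≤ ·) by
        rw [← hF.posUnipotent_eq]; exact hu)
    exact ⟨⟨u', hF.pos_le_group (rootClosure_mono (fun _ _ h => h.1) hu')⟩, hu', a, Subtype.ext e⟩
  x_unique i a ha := by
    have hp := hF.simple_lt' i.isLt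
    have h1 : nS D K i * xU D (D.simple i.val) a * (nS D K i)⁻¹ ∈ D.borelSubgroup K :=
      hF.pos_le_borel (hF.conj_rootClosure (hF.permAct_nS i) (Q := (D.nroots / 2 ≤ ·))
        (fun r hr => (hF.sP_pos i hr.1 hr.2).1) ha)
    rw [nS, hF.nU_conj_self hp] at h1
    have h4 : xU D (D.neg (D.simple i.val)) (-a) ∈ D.borelSubgroup K ⊓ D.negUnipotent K := by
      refine ⟨h1, ?_⟩
      rw [hF.negUnipotent_eq]
      refine xU_mem_rootClosure (hF.neg_lt hp) ?_ _
      have := (hF.simple_lt i.val i.isLt).1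
      have := hF.neg_lt_half hp
      omega
    rw [hF.borel_inf_neg, Subgroup.mem_bot] at h4
    exact neg_eq_zero.1 (hF.xU_eq_one (hF.neg_lt hp) h4)
  n_U' i u hu := hF.conj_rootClosure (hF.permAct_nS i)
    (fun r hr => hF.sP_pos i hr.1 hr.2) hu
  x_U' i a u hu := (Subgroup.mem_normalizer_iff.1 (hF.simple_normalizer hC i
    (hF.simple_lt' i.isLt) (Or.inl rfl)
    (xU_mem_rootClosure (P := (· = D.simple i.val)) (hF.simple_lt' i.isLt) rfl a))
      (u : GL D.Idx K)).1 hu
  V_decomp i v hv := by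
    obtain ⟨v', hv', b, e⟩ := neg_decomp hF hC i hv
    refine ⟨⟨v', ?_⟩, hF.conj_rootClosure (hF.permAct_nS i) (Q := (· < D.nroots / 2))
      (fun r hr => ?_) hv', b, Subtype.ext e⟩
    · rw [hF.group_eq]; exact rootClosure_mono (fun _ _ _ => trivial) hv'
    · have hne : (hF.negFin r).val ≠ D.simple i.val := fun e =>
        hr.2 (by rw [← e]; exact (hF.neg_neg r.isLt).symm)
      have h1 := (hF.sP_pos i ((hF.negFin_pos r).2 hr.1) hne).1
      rw [hF.sP_neg] at h1
      exact (hF.negFin_pos _).1 h1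
  gen := by
    intro g _
    refine (Subgroup.mem_map_iff_mem (f := (D.group K).subtype) Subtype.val_injective).1 ?_
    set M := (Subgroup.closure _).map (D.group K).subtype with hM
    suffices rootClosure D K (fun _ => True) ≤ M from this (by rw [← hF.group_eq]; exact g.2)
    have hn : ∀ i : Fin D.rank, nS D K i ∈ M := fun i =>
      ⟨⟨nS D K i, hF.monomial_le_group (hF.nS_mem i)⟩,
        Subgroup.subset_closure (Or.inr ⟨i, rfl⟩), rfl⟩
    have key : ∀ r < D.nroots, ∀ t : K, xU D r t ∈ M := by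
      intro r hr
      refine hF.root_induction (P := fun r => ∀ t : K, xU D r t ∈ M) (fun i hi t => ?_)
        (fun i hi s hs ih t => ?_) hr
      · have hy : xU D (D.neg (D.simple i)) (-t) ∈ M :=
          ⟨⟨_, hF.xU_mem_group (hF.neg_lt (hF.simple_lt' hi)) (-t)⟩,
            Subgroup.subset_closure (Or.inl (Or.inl (xU_mem_rootClosure
              (hF.neg_lt (hF.simple_lt' hi)) (by
                have := (hF.simple_lt i hi).1
                have := hF.neg_lt_half (hF.simple_lt' hi)
                omega) (-t)))), rfl⟩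
        have := M.mul_mem (M.mul_mem (M.inv_mem (hn ⟨i, hi⟩)) hy) (hn ⟨i, hi⟩)
        rwa [nS, ← hF.nU_conj_self (hF.simple_lt' hi), show ∀ a b : GL D.Idx K,
          a⁻¹ * (a * b * a⁻¹) * a = b from fun a b => by group] at this
      · obtain ⟨η, h1, -, h3⟩ := hF.exists_eta (F := K) hi
        have := h3 s hs ((η s : K) * t)
        rw [show (η s : K) * ((η s : K) * t) = t by rcases h1 s hs with h | h <;> simp [h],
          ← mul_inv_eq_iff_eq_mul] at this
        rw [← this]
        exact M.mul_mem (M.mul_mem (hn ⟨i, hi⟩) (ih _)) (M.inv_mem (hn ⟨i, hi⟩))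
    refine (Subgroup.closure_le _).2 ?_
    rintro _ ⟨r, t, hr, -, rfl⟩
    exact key r hr t
  N_cases m hm := by
    obtain ⟨σ, hσ⟩ := hF.exists_permAct hm
    have hσ' := hF.permAct_inv hm hσ
    by_cases hex : ∃ r : Fin D.nroots, D.nroots / 2 ≤ r.val ∧ D.nroots / 2 ≤ (σ⁻¹ r).val
    · obtain ⟨r, hr, hr'⟩ := hex
      refine Or.inl ⟨⟨xU D r.val (1 : K), hF.xU_mem_group r.isLt 1⟩, ?_,
        fun e => one_ne_zero (hF.xU_eq_one r.isLt (congrArg Subtype.val e)), ?_⟩
      · show xU D r.val (1 : K) ∈ D.posUnipotent K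
        rw [hF.posUnipotent_eq]; exact xU_mem_rootClosure r.isLt hr 1
      · obtain ⟨c, -, hc, -⟩ := hσ' r
        show (m : GL D.Idx K)⁻¹ * xU D r.val 1 * (m : GL D.Idx K) ∈ D.posUnipotent K
        have := hc 1
        simp only [inv_inv, Subgroup.subtype_apply] at this
        rw [this, hF.posUnipotent_eq]
        exact xU_mem_rootClosure (σ⁻¹ r).isLt hr' _
    · push Not at hex
      refine Or.inr fun i a => ?_
      let P := {r : Fin D.nroots // D.nroots / 2 ≤ r.val}
      let f : P → P := fun r => ⟨hF.negFin (σ⁻¹ r.1), (hF.negFin_pos _).2 (hex r.1 r.2)⟩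
      have hinj : ∀ {s t : Fin D.nroots}, hF.negFin s = hF.negFin t → s = t := fun {s t} e =>
        Fin.ext (by rw [← hF.neg_neg s.isLt, ← hF.neg_neg t.isLt]; exact congrArg D.neg (congrArg Fin.val e))
      have hf : Function.Surjective f := Finite.injective_iff_surjective.1 fun r s e =>
        Subtype.ext (σ⁻¹.injective (hinj (congrArg Subtype.val e)))
      let s : Fin D.nroots := hF.negFin (hF.simpleFin i)
      have hs : s.val < D.nroots / 2 := by
        have h1 := hF.negFin_pos (hF.simpleFin i)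
        have h2 : D.nroots / 2 ≤ (hF.simpleFin i).val := (hF.simple_lt i.val i.isLt).1
        show (hF.negFin (hF.simpleFin i)).val < _
        omega
      have hpos : D.nroots / 2 ≤ (σ⁻¹ s).val := by
        by_contra hlt
        obtain ⟨r, hr⟩ := hf ⟨hF.negFin (σ⁻¹ s), (hF.negFin_pos _).2 (by omega)⟩
        have e := σ⁻¹.injective (hinj (congrArg Subtype.val hr))
        have hr' := r.2
        rw [e] at hr'
        omega
      obtain ⟨c, -, hc, -⟩ := hσ' s
      show (m : GL D.Idx K)⁻¹ * xU D (D.neg (D.simple i.val)) a * (m : GL D.Idx K) ∈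
        D.posUnipotent K
      have := hc a
      simp only [inv_inv, Subgroup.subtype_apply] at this
      rw [show D.neg (D.simple i.val) = s.val from rfl, this, hF.posUnipotent_eq]
      exact xU_mem_rootClosure (σ⁻¹ s).isLt hpos _

/-- The Steinberg character is the only character of defect zero. -/
theorem eq_steinberg [Fintype K] (p : ℕ) [Fact p.Prime] [CharP K p] {χ : ↥(D.group K) → ℂ}
    (hχ : Cfsg.IsIrrCharacter ↥(D.group K) χ)
    (hdeg : ∃ d : ℕ, χ 1 = (d : ℂ) ∧ p ^ (Nat.card ↥(D.group K)).factorization p ∣ d) :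
    χ = D.steinbergCharacter K := by
  classical
  letI : Fintype ↥(D.group K) := Fintype.ofFinite _
  set P := hF.bnPair hC (K := K)
  have hSt : Cfsg.IsIrrCharacter ↥(D.group K) (D.steinbergCharacter K) := by
    rw [funext (CfsgLib.BNSteinberg.steinberg_eq hF hC (K := K))]
    exact CfsgLib.BNSteinberg.isIrr_stJ
  obtain ⟨k, _, _, O, r, d, A, hA⟩ := exists_zeroDefectForm Fact.out hχ hdeg
  set S := chevData hF hC p (K := K) with hS
  letI : Fintype S.U := Fintype.ofFinite _
  obtain ⟨hd, w, hw0, hwB, hwn⟩ := S.exists_borel_vector hA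
  have hUB : ∀ J : Finset ℕ, J ⊆ Finset.range D.rank → S.U ≤ D.parabolicIn K J := fun J hJ => by
    rw [CfsgLib.BNSteinberg.parabolicIn_eq hF hC hJ]
    exact le_trans (fun g hg => (le_sup_left : D.posUnipotent K ≤ D.borelSubgroup K) hg)
      (CfsgLib.Chev.BN.B_le_parabolic _)
  have hsum : ∀ J : Finset ℕ, J ⊆ Finset.range D.rank → J ≠ ∅ →
      ∑ h : D.parabolicIn K J, χ (h : ↥(D.group K)) = 0 := by
    intro J hJ hne
    obtain ⟨j, hj⟩ := Finset.nonempty_iff_ne_empty.2 hne
    have hjr := Finset.mem_range.1 (hJ hj)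
    refine hA.sum_eq_zero (x₀ := S.n ⟨j, hjr⟩) (hUB J hJ) S.U_pgroup hd.symm ?_ (hwn _)
    rw [CfsgLib.BNSteinberg.parabolicIn_eq hF hC hJ]
    refine CfsgLib.Chev.BN.J_subset_parabolic ⟨j, hj, Subtype.ext ?_⟩
    rw [CfsgLib.BNSteinberg.el_val hF hC hjr]
    rfl
  have hsum0 : ∑ h : D.parabolicIn K ∅, χ (h : ↥(D.group K)) ≠ 0 := by
    have hB : D.parabolicIn K ∅ = S.B := by
      rw [CfsgLib.BNSteinberg.parabolicIn_eq hF hC (Finset.empty_subset _), Finset.coe_empty,
        Set.image_empty, Cfsg.BNPair.parabolic, Subgroup.closure_empty, sup_bot_eq]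
      rfl
    refine hA.sum_ne_zero (hUB ∅ (Finset.empty_subset _)) ?_ hw0 (fun b hb => hwB b (hB ▸ hb))
    obtain ⟨Q, hQ⟩ := (CfsgLib.BNSteinberg.split hF hC p (K := K)).exists_sylow
    refine fun h => Q.not_dvd_index (dvd_trans h ?_)
    rw [hQ]
    exact Dvd.intro _ (Subgroup.relIndex_mul_index (hUB ∅ (Finset.empty_subset _)))
  have hval : ∀ J : Finset ℕ, Cfsg.classInner (Cfsg.fixedPointCharacter (D.parabolicIn K J)) χ =
      (Nat.card (D.parabolicIn K J) : ℂ)⁻¹ * conj (∑ h : D.parabolicIn K J, χ (h : ↥(D.group K))) := by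
    intro J
    have e := CfsgLib.Char.permChar_eq_indFun (G := ↥(D.group K))
      ((1 : ↥(D.group K)) : ↥(D.group K) ⧸ D.parabolicIn K J)
    rw [MulAction.stabilizer_quotient] at e
    rw [show Cfsg.fixedPointCharacter (D.parabolicIn K J) = _ from e,
      CfsgLib.Char.frobenius_reciprocity _ _ (CfsgLib.Char.isClassFunction_of_isIrr hχ),
      CfsgLib.Char.classInner_def, map_sum]
    simp only [one_mul]
  have hne : Cfsg.classInner (D.steinbergCharacter K) χ ≠ 0 := by
    have e : D.steinbergCharacter K = ∑ J ∈ (Finset.range D.rank).powerset,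
        ((-1 : ℂ) ^ J.card) • Cfsg.fixedPointCharacter (D.parabolicIn K J) := by
      funext g
      rw [Finset.sum_apply]
      rfl
    rw [e, CfsgLib.Char.classInner_sum_left, Finset.sum_eq_single (∅ : Finset ℕ)]
    · rw [CfsgLib.Char.classInner_smul_left, Finset.card_empty, pow_zero, one_mul, hval]
      exact mul_ne_zero (inv_ne_zero (Nat.cast_ne_zero.2 Nat.card_pos.ne'))
        ((map_ne_zero _).2 hsum0)
    · intro J hJ hJne
      rw [CfsgLib.Char.classInner_smul_left, hval, hsum J (Finset.mem_powerset.1 hJ) hJne,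
        map_zero, mul_zero, mul_zero]
    · exact fun h => absurd (Finset.empty_mem_powerset _) h
  by_contra h
  exact hne (CfsgLib.Char.classInner_irr_ne hSt hχ fun e => h e.symm)

end CfsgLib.DefectZero
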