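import Cfsg.Agent.Lib.Modular.Reduction
import Cfsg.Agent.Lib.Blocks.GaloisInv
import Cfsg.Agent.Lib.Blocks.SimpleTrace
import Cfsg.Agent.Lib.Char.DefectZero
import Cfsg.Agent.Lib.Char.Integral
import Cfsg.Agent.Lib.FGS.FreeOverComplement

/-!
# The reduction of a character of defect zero

For a character of `p`-defect zero the reduction modulo `M` of an integral form is irreducible and
every vector fixed by a `p`-subgroup `U` is a `U`-norm; two criteria for the character sums over
subgroups containing `U` follow.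
-/

set_option autoImplicit false

noncomputable section

namespace CfsgLib.DefectZero

open Cfsg CfsgLib.Blocks CfsgLib.Char CfsgLib.Modular
open scoped Matrix

set_option linter.unusedSectionVars false
set_option linter.style.haveILetI false

variable {O : Subring ℂ} {k : Type*} [Field k] {r : O →+* k} {G : Type*} [Group G] [Fintype G]
  {p d : ℕ}

/-- The complex representation of an integral one. -/
def liftRep (A : G →* Matrix (Fin d) (Fin d) O) : Representation ℂ G (Fin d → ℂ) where
  toFun g := Matrix.toLin' ((A g).map O.subtype)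
  map_one' := by
    rw [map_one, Matrix.map_one _ (map_zero _) (map_one _), Matrix.toLin'_one]; rfl
  map_mul' a b := by
    rw [map_mul, Matrix.map_mul, Matrix.toLin'_mul]; rfl

/-- The reduction of an integral representation. -/
def redForm (r : O →+* k) (A : G →* Matrix (Fin d) (Fin d) O) : Representation k G (Fin d → k) where
  toFun g := Matrix.toLin' ((A g).map r)
  map_one' := by
    rw [map_one, Matrix.map_one _ (map_zero _) (map_one _), Matrix.toLin'_one]; rfl
  map_mul' a b := by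
    rw [map_mul, Matrix.map_mul, Matrix.toLin'_mul]; rfl

theorem redForm_apply (A : G →* Matrix (Fin d) (Fin d) O) (g : G) (v : Fin d → k) :
    redForm r A g v = (A g).map r *ᵥ v := rfl

theorem liftRep_apply (A : G →* Matrix (Fin d) (Fin d) O) (g : G) (v : Fin d → ℂ) :
    liftRep A g v = (A g).map O.subtype *ᵥ v := rfl

theorem redForm_map (A : G →* Matrix (Fin d) (Fin d) O) (g : G) (v : Fin d → O) :
    redForm r A g (fun i => r (v i)) = fun i => r ((A g *ᵥ v) i) :=
  funext fun i => (RingHom.map_mulVec r (A g) v i).symm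

theorem liftRep_map (A : G →* Matrix (Fin d) (Fin d) O) (g : G) (v : Fin d → O) :
    liftRep A g (fun i => O.subtype (v i)) =
      fun i => O.subtype ((A g *ᵥ v) i) :=
  funext fun i => (RingHom.map_mulVec O.subtype (A g) v i).symm

theorem sum_cosets {K : Type*} [Group K] [Fintype K] (U : Subgroup K) [Fintype U] [Fintype (K ⧸ U)]
    {X : Type*} [AddCommMonoid X] (f : K → X) : ∑ g, f g = ∑ q : K ⧸ U, ∑ u : U, f (q.out * u) := by
  rw [← Fintype.sum_prod_type']
  refine (Fintype.sum_bijective (fun qu : (K ⧸ U) × U => qu.1.out * (qu.2 : K)) ⟨?_, ?_⟩ _ _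
    fun _ => rfl).symm
  · rintro ⟨q, u⟩ ⟨q', u'⟩ e
    have e' : q.out * (u : K) = q'.out * (u' : K) := e
    have h : q = q' := by
      rw [← QuotientGroup.out_eq' q, ← QuotientGroup.out_eq' q', QuotientGroup.eq,
        show q.out⁻¹ * q'.out = (u : K) * (u' : K)⁻¹ by
          rw [eq_mul_inv_iff_mul_eq, mul_assoc, ← e', inv_mul_cancel_left]]
      exact mul_mem u.2 (inv_mem u'.2)
    subst h
    exact Prod.ext rfl (Subtype.ext (mul_left_cancel e'))
  · intro g
    have hm : (g : K ⧸ U).out⁻¹ * g ∈ U := QuotientGroup.eq.mp (QuotientGroup.out_eq' _)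
    exact ⟨((g : K ⧸ U), ⟨_, hm⟩), mul_inv_cancel_left _ _⟩

/-- An integral form `A` of an irreducible character `χ` of `p`-defect zero. -/
structure IsZeroDefectForm (r : O →+* k) (p : ℕ) (χ : G → ℂ) (A : G →* Matrix (Fin d) (Fin d) O) :
    Prop where
  prime : p.Prime
  charP : CharP k p
  surj : Function.Surjective r
  irr : IsIrrCharacter G χ
  trace : ∀ g, (((A g).trace : O) : ℂ) = χ g
  dvd : p ^ (Nat.card G).factorization p ∣ d

namespace IsZeroDefectForm

variable {χ : G → ℂ} {A : G →* Matrix (Fin d) (Fin d) O}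

theorem char_eq (h : IsZeroDefectForm r p χ A) : (liftRep A).character = χ := funext fun g => by
  rw [← h.trace g]
  show LinearMap.trace ℂ _ (Matrix.toLin' ((A g).map O.subtype)) = _
  rw [Matrix.trace_toLin'_eq]
  exact (AddMonoidHom.map_trace O.subtype.toAddMonoidHom (A g)).symm

theorem deg (h : IsZeroDefectForm r p χ A) : χ 1 = d := by
  rw [← h.trace 1, map_one, Matrix.trace_one, Fintype.card_fin]
  exact SubringClass.coe_natCast _ _

theorem deg_ne_zero (h : IsZeroDefectForm r p χ A) : d ≠ 0 := fun h0 =>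
  irr_one_ne_zero h.irr (by rw [h.deg, h0, Nat.cast_zero])

theorem isIrreducible (h : IsZeroDefectForm r p χ A) : (liftRep A).IsIrreducible :=
  isIrreducible_of_isIrrCharacter _ (h.char_eq.symm ▸ h.irr)

theorem deg_dvd (h : IsZeroDefectForm r p χ A) : d ∣ Nat.card G := degree_dvd_card h.irr h.deg

theorem not_dvd_cofactor (h : IsZeroDefectForm r p χ A) : ¬ p ∣ Nat.card G / d := fun hd =>
  Nat.pow_succ_factorization_not_dvd Nat.card_pos.ne' h.prime (by
    rw [pow_succ, ← Nat.mul_div_cancel' h.deg_dvd]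
    convert Nat.mul_dvd_mul h.dvd hd using 1
    rw [Nat.mul_div_cancel' h.deg_dvd])

theorem cofactor_ne_zero (h : IsZeroDefectForm r p χ A) : ((Nat.card G / d : ℕ) : k) ≠ 0 := by
  haveI := h.charP
  exact fun h0 => h.not_dvd_cofactor ((CharP.cast_eq_zero_iff k p _).mp h0)

theorem sum_conj (h : IsZeroDefectForm r p χ A) (E : Matrix (Fin d) (Fin d) O) :
    ∑ g, A g * E * A g⁻¹ = (((Nat.card G / d : ℕ) : O) * E.trace) • 1 := by
  let F : G →* Matrix (Fin d) (Fin d) ℂ :=
    (O.subtype.mapMatrix : _ →+* Matrix (Fin d) (Fin d) ℂ).toMonoidHom.comp A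
  set E' : Matrix (Fin d) (Fin d) ℂ := E.map O.subtype
  set T := ∑ g, F g * E' * F g⁻¹ with hT
  have hcomm : ∀ x, T * F x = F x * T := by
    intro x
    rw [hT, Finset.sum_mul, Finset.mul_sum]
    refine Fintype.sum_equiv (Equiv.mulLeft x⁻¹) _ _ fun g => ?_
    rw [Equiv.coe_mulLeft, ← mul_assoc (F x), ← mul_assoc (F x), ← map_mul, mul_inv_cancel_left,
      mul_inv_rev, inv_inv, map_mul, ← mul_assoc]
  haveI := h.isIrreducible
  obtain ⟨c, hc⟩ := exists_eq_smul_id (liftRep A) (Matrix.toLin' T) fun x => by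
    show Matrix.toLin' T ∘ₗ Matrix.toLin' (F x) = Matrix.toLin' (F x) ∘ₗ Matrix.toLin' T
    rw [← Matrix.toLin'_mul, ← Matrix.toLin'_mul, hcomm]
  have hT' : T = c • 1 := Matrix.toLin'.injective (by
    rw [hc, map_smul, Matrix.toLin'_one])
  have htr : (Nat.card G : ℂ) * E'.trace = c * d := by
    have h1 := congrArg Matrix.trace hT'
    rw [hT, Matrix.trace_sum, Matrix.trace_smul, Matrix.trace_one, Fintype.card_fin, smul_eq_mul,
      Finset.sum_congr rfl (g := fun _ => E'.trace) fun g _ => by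
        rw [Matrix.trace_mul_comm, ← mul_assoc, ← map_mul, inv_mul_cancel, map_one, one_mul],
      Finset.sum_const, Finset.card_univ, ← Nat.card_eq_fintype_card, nsmul_eq_mul] at h1
    exact h1
  have hc' : c = ((Nat.card G / d : ℕ) : ℂ) * E'.trace := by
    have hd0 : (d : ℂ) ≠ 0 := Nat.cast_ne_zero.mpr h.deg_ne_zero
    rw [← Nat.mul_div_cancel' h.deg_dvd, Nat.cast_mul] at htr
    exact mul_left_cancel₀ hd0 (by linear_combination -htr)
  apply Matrix.map_injective (f := O.subtype) Subtype.val_injective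
  show O.subtype.mapMatrix (∑ g, A g * E * A g⁻¹) = O.subtype.mapMatrix _
  rw [map_sum]
  simp only [map_mul]
  show T = _
  rw [hT', hc']
  ext i j
  simp only [RingHom.mapMatrix_apply, Matrix.map_apply, Matrix.smul_apply, smul_eq_mul, map_mul,
    map_natCast, Matrix.one_apply]
  rw [show E'.trace = O.subtype E.trace from
    (AddMonoidHom.map_trace O.subtype.toAddMonoidHom E).symm]
  split_ifs <;> simp

theorem sum_conj_red (h : IsZeroDefectForm r p χ A) (E : Matrix (Fin d) (Fin d) k)
    (v : Fin d → k) :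
    ∑ g, redForm r A g (E *ᵥ redForm r A g⁻¹ v) = (((Nat.card G / d : ℕ) : k) * E.trace) • v := by
  classical
  let E₀ : Matrix (Fin d) (Fin d) O :=
    Matrix.of fun i j => Classical.choose (h.surj (E i j))
  have hE : E₀.map r = E :=
    Matrix.ext fun i j => Classical.choose_spec (h.surj (E i j))
  have h1 := congrArg r.mapMatrix (h.sum_conj E₀)
  rw [map_sum] at h1
  simp only [map_mul] at h1
  have h2 := congrArg (fun X : Matrix (Fin d) (Fin d) k => X *ᵥ v) h1
  simp only [Matrix.sum_mulVec, RingHom.mapMatrix_apply, hE, ← Matrix.mulVec_mulVec] at h2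
  rw [show (((Nat.card G / d : ℕ) : k) * E.trace) • v =
    ((((Nat.card G / d : ℕ) : O) * E₀.trace) •
      (1 : Matrix (Fin d) (Fin d) O)).map r *ᵥ v from ?_, ← h2]
  · rfl
  · rw [show ((((Nat.card G / d : ℕ) : O) * E₀.trace) • (1 : Matrix (Fin d) (Fin d) O)).map r =
      r (((Nat.card G / d : ℕ) : O) * E₀.trace) • (1 : Matrix (Fin d) (Fin d) k) by
        ext i j
        rw [Matrix.map_apply, Matrix.smul_apply, Matrix.smul_apply, smul_eq_mul, smul_eq_mul,
          map_mul, Matrix.one_apply, Matrix.one_apply, apply_ite r, map_one, map_zero],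
      map_mul, map_natCast, Matrix.smul_mulVec, Matrix.one_mulVec]
    congr 2
    rw [← hE]
    exact (AddMonoidHom.map_trace r.toAddMonoidHom E₀).symm

/-- The reduction is irreducible. -/
theorem eq_top_of_invariant (h : IsZeroDefectForm r p χ A) {W : Submodule k (Fin d → k)}
    (hW : ∀ g, ∀ x ∈ W, redForm r A g x ∈ W) {w : Fin d → k} (hw : w ∈ W) (hw0 : w ≠ 0) :
    W = ⊤ := by
  obtain ⟨j, hj⟩ := Function.ne_iff.mp hw0
  set ψ : Fin d → k := Pi.single j (w j)⁻¹ with hψ
  rw [eq_top_iff]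
  intro v _
  have h1 := h.sum_conj_red (Matrix.vecMulVec w ψ) v
  rw [Matrix.trace_vecMulVec, hψ, dotProduct_single, mul_inv_cancel₀ hj, mul_one] at h1
  have hmem : ((Nat.card G / d : ℕ) : k) • v ∈ W := by
    rw [← h1]
    refine Submodule.sum_mem _ fun g _ => hW g _ ?_
    rw [Matrix.vecMulVec_mulVec, op_smul_eq_smul]
    exact W.smul_mem _ hw
  have := W.smul_mem ((Nat.card G / d : ℕ) : k)⁻¹ hmem
  rwa [smul_smul, inv_mul_cancel₀ h.cofactor_ne_zero, one_smul] at this

/-- A vector fixed by `U` is a `U`-norm. -/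
theorem exists_norm_eq (h : IsZeroDefectForm r p χ A) (U : Subgroup G) [Fintype U]
    {x : Fin d → k} (hx : ∀ u ∈ U, redForm r A u x = x) :
    ∃ y, ∑ u : U, redForm r A (u : G) y = x := by
  classical
  have hd : 0 < d := Nat.pos_of_ne_zero h.deg_ne_zero
  set E : Matrix (Fin d) (Fin d) k := Matrix.single ⟨0, hd⟩ ⟨0, hd⟩ 1 with hE
  have h1 := h.sum_conj_red E x
  rw [hE, Matrix.trace_single_eq_same, mul_one, ← hE] at h1
  rw [← Equiv.sum_comp (Equiv.inv G), sum_cosets U] at h1
  refine ⟨((Nat.card G / d : ℕ) : k)⁻¹ •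
    ∑ q : G ⧸ U, redForm r A q.out⁻¹ (E *ᵥ redForm r A q.out x), ?_⟩
  simp only [map_smul, ← Finset.smul_sum]
  rw [inv_smul_eq_iff₀ h.cofactor_ne_zero, ← h1]
  simp only [map_sum]
  rw [Finset.sum_comm]
  refine Finset.sum_congr rfl fun q _ => ?_
  refine Fintype.sum_equiv (Equiv.inv U) _ _ fun u => ?_
  simp only [Equiv.inv_apply, inv_inv, mul_inv_rev, Subgroup.coe_inv, map_mul, Module.End.mul_apply]
  rw [hx _ (inv_mem u.2)]

theorem exists_fixed (h : IsZeroDefectForm r p χ A) {U : Subgroup G} (hU : IsPGroup p U) :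
    ∃ w : Fin d → k, w ≠ 0 ∧ ∀ u ∈ U, redForm r A u w = w := by
  haveI : Fact p.Prime := ⟨h.prime⟩
  haveI : CharP k p := h.charP
  haveI : Nonempty (Fin d) := ⟨⟨0, Nat.pos_of_ne_zero h.deg_ne_zero⟩⟩
  obtain ⟨w, hw, hfix⟩ := CfsgLib.FGS.FreeCompl.exists_fixed_of_pGroup hU
    (MonoidHom.comp (redForm r A) U.subtype)
  exact ⟨w, hw, fun u hu => hfix ⟨u, hu⟩⟩

theorem exists_norm_ne_zero (h : IsZeroDefectForm r p χ A) (U : Subgroup G) [Fintype U]
    (hU : IsPGroup p U) : ∃ y, ∑ u : U, redForm r A (u : G) y ≠ 0 := by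
  obtain ⟨w, hw, hfix⟩ := h.exists_fixed hU
  obtain ⟨y, hy⟩ := h.exists_norm_eq U hfix
  exact ⟨y, hy.symm ▸ hw⟩

theorem sum_pGroup (h : IsZeroDefectForm r p χ A) (U : Subgroup G) [Fintype U] (hU : IsPGroup p U) :
    ∑ u : U, χ (u : G) = d := by
  classical
  haveI : Fact p.Prime := ⟨h.prime⟩
  rw [Finset.sum_eq_single (1 : U), OneMemClass.coe_one, h.deg]
  · intro u _ hu
    obtain ⟨k, hk⟩ := IsPGroup.iff_orderOf.mp hU u
    refine vanish_of_defect_zero h.irr h.prime (Nat.ordProj_dvd _ _)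
      (Nat.pow_succ_factorization_not_dvd Nat.card_pos.ne' h.prime) h.deg h.dvd ?_
    rw [Subgroup.orderOf_coe, hk]
    refine dvd_pow_self p fun h0 => hu ?_
    rwa [h0, pow_zero, orderOf_eq_one_iff] at hk
  · exact fun hn => absurd (Finset.mem_univ _) hn

theorem sum_character (h : IsZeroDefectForm r p χ A) (H : Subgroup G) [Fintype H] :
    LinearMap.trace ℂ _ (∑ x : H, liftRep A (x : G)) = ∑ x : H, χ (x : G) := by
  rw [map_sum]
  exact Finset.sum_congr rfl fun x _ => congrFun h.char_eq (x : G)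

theorem isProj_average (H : Subgroup G) [Fintype H]
    (A : G →* Matrix (Fin d) (Fin d) O) :
    LinearMap.IsProj (LinearMap.range ((Nat.card H : ℂ)⁻¹ • ∑ x : H, liftRep A (x : G)))
      ((Nat.card H : ℂ)⁻¹ • ∑ x : H, liftRep A (x : G)) := by
  refine ⟨fun x => LinearMap.mem_range_self _ x, ?_⟩
  rintro _ ⟨z, rfl⟩
  have hfix : ∀ y : H, liftRep A (y : G) (((Nat.card H : ℂ)⁻¹ • ∑ x : H, liftRep A (x : G)) z) =
      ((Nat.card H : ℂ)⁻¹ • ∑ x : H, liftRep A (x : G)) z := by
    intro y
    simp only [LinearMap.smul_apply, LinearMap.coe_sum, Finset.sum_apply, map_smul, map_sum]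
    congr 1
    refine Fintype.sum_equiv (Equiv.mulLeft y) _ _ fun x => ?_
    simp [Module.End.mul_apply]
  conv_lhs => rw [LinearMap.smul_apply, LinearMap.sum_apply]
  rw [Finset.sum_congr rfl fun y _ => hfix y, Finset.sum_const, Finset.card_univ,
    ← Nat.cast_smul_eq_nsmul ℂ, smul_smul, ← Nat.card_eq_fintype_card,
    inv_mul_cancel₀ (Nat.cast_ne_zero.mpr Nat.card_pos.ne'), one_smul]

/-- A sum criterion: a `U`-norm fixed by `B` forces the sum over `B` to be nonzero. -/
theorem sum_ne_zero (h : IsZeroDefectForm r p χ A) {U B : Subgroup G} [Fintype U] [Fintype B]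
    (hUB : U ≤ B) (hidx : ¬ p ∣ U.relIndex B) {w : Fin d → k}
    (hf0 : ∑ u : U, redForm r A (u : G) w ≠ 0)
    (hfix : ∀ b ∈ B, redForm r A b (∑ u : U, redForm r A (u : G) w) = ∑ u : U, redForm r A (u : G) w) :
    ∑ b : B, χ (b : G) ≠ 0 := by
  classical
  intro h0
  have hP := isProj_average B A
  have htr := hP.trace
  rw [map_smul, h.sum_character, h0, smul_zero] at htr
  have hzero : ((Nat.card B : ℂ)⁻¹ • ∑ b : B, liftRep A (b : G)) = 0 :=
    LinearMap.range_eq_bot.mp (Submodule.finrank_eq_zero.mp (by exact_mod_cast htr.symm))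
  have hC : ∑ b : B, liftRep A (b : G) = 0 :=
    (smul_eq_zero.mp hzero).resolve_left (inv_ne_zero (Nat.cast_ne_zero.mpr Nat.card_pos.ne'))
  have hO : ∑ b : B, A (b : G) = 0 := by
    apply Matrix.map_injective (f := O.subtype) Subtype.val_injective
    show O.subtype.mapMatrix (∑ b : B, A (b : G)) = O.subtype.mapMatrix 0
    rw [map_sum, map_zero]
    apply Matrix.toLin'.injective
    rw [map_sum, map_zero]
    exact hC
  have hR : ∑ b : B, redForm r A (b : G) w = 0 := by
    simp only [redForm_apply, ← Matrix.sum_mulVec]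
    rw [show ∑ b : B, (A (b : G)).map r = r.mapMatrix (∑ b : B, A (b : G)) by
      rw [map_sum]; rfl, hO, map_zero, Matrix.zero_mulVec]
  haveI : Fintype (↥B ⧸ U.subgroupOf B) := Fintype.ofFinite _
  rw [sum_cosets (U.subgroupOf B)] at hR
  simp only [Subgroup.coe_mul, map_mul, Module.End.mul_apply, ← map_sum] at hR
  have hU' : ∑ u : U.subgroupOf B, redForm r A ((u : B) : G) w = ∑ u : U, redForm r A (u : G) w :=
    Fintype.sum_equiv (Subgroup.subgroupOfEquivOfLe hUB).toEquiv _ _ fun u => rfl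
  rw [hU', Finset.sum_congr rfl fun q _ => hfix _ (SetLike.coe_mem q.out), Finset.sum_const,
    Finset.card_univ, ← Nat.cast_smul_eq_nsmul k, ← Nat.card_eq_fintype_card,
    ← Subgroup.index_eq_card] at hR
  refine (smul_eq_zero.mp hR).elim (fun e => hidx ?_) hf0
  haveI : CharP k p := h.charP
  exact (CharP.cast_eq_zero_iff k p _).mp e

/-- A sum criterion: a `U`-norm moved by an element of `H` forces the sum over `H` to vanish. -/
theorem sum_eq_zero (h : IsZeroDefectForm r p χ A) {U H : Subgroup G} [Fintype U] [Fintype H]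
    (hUH : U ≤ H) (hU : IsPGroup p U) (hcard : Nat.card U = d) {w : Fin d → k}
    {x₀ : G} (hx₀ : x₀ ∈ H)
    (hmove : redForm r A x₀ (∑ u : U, redForm r A (u : G) w) ≠ ∑ u : U, redForm r A (u : G) w) :
    ∑ x : H, χ (x : G) = 0 := by
  classical
  by_contra hne
  set eU := (Nat.card U : ℂ)⁻¹ • ∑ u : U, liftRep A (u : G) with heU
  set eH := (Nat.card H : ℂ)⁻¹ • ∑ x : H, liftRep A (x : G) with heH
  have hd0 : (d : ℂ) ≠ 0 := Nat.cast_ne_zero.mpr h.deg_ne_zero
  have hrk : Module.finrank ℂ (LinearMap.range eU) = 1 := by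
    have ht := (isProj_average U A).trace
    rw [map_smul, h.sum_character, h.sum_pGroup U hU, hcard, smul_eq_mul,
      inv_mul_cancel₀ hd0] at ht
    rw [heU, hcard]
    exact_mod_cast ht.symm
  have heH0 : eH ≠ 0 := fun e => hne (by
    have e1 := congrArg (LinearMap.trace ℂ _) e
    rw [heH, map_smul, h.sum_character, map_zero] at e1
    exact (smul_eq_zero.mp e1).resolve_left (inv_ne_zero (Nat.cast_ne_zero.mpr Nat.card_pos.ne')))
  obtain ⟨z, hz⟩ : ∃ z, eH z ≠ 0 := by
    by_contra hall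
    push Not at hall
    exact heH0 (LinearMap.ext hall)
  have hfixH : ∀ x ∈ H, liftRep A x (eH z) = eH z := by
    intro x hx
    simp only [heH, LinearMap.smul_apply, LinearMap.coe_sum, Finset.sum_apply, map_smul, map_sum]
    congr 1
    refine Fintype.sum_equiv (Equiv.mulLeft ⟨x, hx⟩) _ _ fun y => ?_
    simp [Module.End.mul_apply]
  have hzU : eH z ∈ LinearMap.range eU := ⟨eH z, by
    rw [heU, LinearMap.smul_apply, LinearMap.sum_apply,
      Finset.sum_congr rfl fun u _ => hfixH _ (hUH u.2), Finset.sum_const, Finset.card_univ,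
      ← Nat.cast_smul_eq_nsmul ℂ, smul_smul, ← Nat.card_eq_fintype_card,
      inv_mul_cancel₀ (Nat.cast_ne_zero.mpr Nat.card_pos.ne'), one_smul]⟩
  choose w₀ hw₀ using fun i => h.surj (w i)
  have hw : (fun i => r (w₀ i)) = w := funext hw₀
  set F : Fin d → O := ∑ u : U, A (u : G) *ᵥ w₀ with hF
  have hFR : ∑ u : U, redForm r A (u : G) w = fun i => r (F i) := by
    rw [← hw]
    simp only [redForm_map]
    funext i
    simp only [hF, Finset.sum_apply, map_sum]
  set FC : Fin d → ℂ := fun i => O.subtype (F i) with hFC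
  have hFC' : FC = (∑ u : U, liftRep A (u : G)) (fun i => O.subtype (w₀ i)) := by
    simp only [LinearMap.sum_apply, liftRep_map]
    funext i
    simp only [hFC, hF, Finset.sum_apply, map_sum]
  have hFU : FC ∈ LinearMap.range eU :=
    ⟨(Nat.card U : ℂ) • (fun i => O.subtype (w₀ i)), by
      rw [heU, LinearMap.smul_apply, map_smul, smul_smul,
        inv_mul_cancel₀ (Nat.cast_ne_zero.mpr Nat.card_pos.ne'), one_smul, hFC']⟩
  obtain ⟨c, hc⟩ := exists_smul_eq_of_finrank_eq_one hrk
    (x := (⟨eH z, hzU⟩ : LinearMap.range eU)) (fun e => hz (congrArg Subtype.val e)) ⟨FC, hFU⟩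
  have hc' : c • eH z = FC := congrArg Subtype.val hc
  have hfixC : liftRep A x₀ FC = FC := by rw [← hc', map_smul, hfixH _ hx₀]
  rw [hFC, liftRep_map] at hfixC
  refine hmove ?_
  rw [hFR, redForm_map]
  exact funext fun i => congrArg r (Subtype.ext (congrFun hfixC i))

end IsZeroDefectForm

attribute [local instance] CfsgLib.Blocks.resField

/-- Every character of defect zero has an integral form. -/
theorem exists_zeroDefectForm (hp : p.Prime) {χ : G → ℂ} (hχ : IsIrrCharacter G χ)
    (hdeg : ∃ n : ℕ, χ 1 = (n : ℂ) ∧ p ^ (Nat.card G).factorization p ∣ n) :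
    ∃ (k : Type) (_ : Field k) (_ : IsAlgClosed k) (O : Subring ℂ) (r : O →+* k) (d : ℕ)
      (A : G →* Matrix (Fin d) (Fin d) O), IsZeroDefectForm r p χ A := by
  obtain ⟨N, hN⟩ := exists_isPModular hp
  haveI := hN.2.1
  obtain ⟨d, A, hA⟩ := exists_integral_rep hN (⟨χ, hχ⟩ : IrrCharacter G)
  have hA' : ∀ g, (((A g).trace : locRing N) : ℂ) = χ g := hA
  obtain ⟨n, hn, hdvd⟩ := hdeg
  have h1 : χ 1 = d := by
    rw [← hA' 1, map_one, Matrix.trace_one, Fintype.card_fin]
    exact SubringClass.coe_natCast _ _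
  have e : n = d := Nat.cast_injective (R := ℂ) (hn.symm.trans h1)
  exact ⟨Res N, inferInstance, res_isAlgClosed N, locRing N, res N, d, A, hp, res_charP N hN,
    res_surjective N, hχ, hA', e ▸ hdvd⟩

end CfsgLib.DefectZero
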