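import Cfsg.Agent.Lib.DefectZero.Reduction
import Cfsg.Agent.Lib.Chev.SL2

/-!
# Irreducible modules of defect zero for split rank one configurations

In a group with a split Bruhat decomposition the reduction of a character of defect zero has a
`U`-norm fixed by `B` and moved by every fundamental Weyl element, and its degree is `|U|`.
-/

set_option autoImplicit false
set_option linter.unusedSectionVars false
set_option linter.style.haveILetI false

noncomputable section

namespace CfsgLib.DefectZero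

open CfsgLib.Chev (RankOne)

section Norm

variable {G : Type*} [Group G] [Finite G] {k V₀ : Type*} [Field k] [AddCommGroup V₀] [Module k V₀]
  (ρ : Representation k G V₀)

/-- The norm map of a subgroup. -/
def nrm (S : Subgroup G) : V₀ →ₗ[k] V₀ :=
  haveI := Fintype.ofFinite S
  ∑ u : S, ρ (u : G)

theorem nrm_apply (S : Subgroup G) [Fintype S] (w : V₀) : nrm ρ S w = ∑ u : S, ρ (u : G) w := by
  rw [nrm, LinearMap.sum_apply]
  congr!

theorem apply_nrm {S : Subgroup G} {s : G} (hs : s ∈ S) (w : V₀) :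
    ρ s (nrm ρ S w) = nrm ρ S w := by
  haveI := Fintype.ofFinite S
  simp only [nrm_apply, map_sum]
  refine Fintype.sum_equiv (Equiv.mulLeft ⟨s, hs⟩) _ _ fun u => ?_
  simp [Module.End.mul_apply]

theorem nrm_apply_mem {S : Subgroup G} {s : G} (hs : s ∈ S) (w : V₀) :
    nrm ρ S (ρ s w) = nrm ρ S w := by
  haveI := Fintype.ofFinite S
  simp only [nrm_apply]
  refine Fintype.sum_equiv (Equiv.mulRight ⟨s, hs⟩) _ _ fun u => ?_
  simp [Module.End.mul_apply]

theorem nrm_conj {S : Subgroup G} {g : G} (hg : ∀ u ∈ S, g * u * g⁻¹ ∈ S) (w : V₀) :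
    ρ g (nrm ρ S w) = nrm ρ S (ρ g w) := by
  haveI := Fintype.ofFinite S
  simp only [nrm_apply, map_sum]
  refine Fintype.sum_bijective (fun u : S => (⟨g * u * g⁻¹, hg u u.2⟩ : S)) ?_ _ _ fun u => ?_
  · exact Finite.injective_iff_bijective.mp fun a b e => by
      simpa using congrArg (Subtype.val : S → G) e
  · rw [← Module.End.mul_apply, ← Module.End.mul_apply, ← map_mul, ← map_mul]
    simp [mul_assoc]

theorem nrm_eq_zero_of_fixed {p : ℕ} [CharP k p] [Fact p.Prime] {S : Subgroup G}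
    (hS : IsPGroup p S) {u : G} (hu : u ∈ S) (hu1 : u ≠ 1) {w : V₀} (hw : ρ u w = w) :
    nrm ρ S w = 0 := by
  haveI := Fintype.ofFinite S
  set Z : Subgroup S := Subgroup.zpowers ⟨u, hu⟩
  haveI := Fintype.ofFinite Z
  haveI := Fintype.ofFinite (↥S ⧸ Z)
  rw [nrm_apply, sum_cosets Z]
  refine Finset.sum_eq_zero fun q _ => ?_
  let fix : Subgroup G :=
    { carrier := {g | ρ g w = w}
      one_mem' := by simp
      mul_mem' := fun {a b} (ha : ρ a w = w) (hb : ρ b w = w) => by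
        show ρ (a * b) w = w
        rw [map_mul, Module.End.mul_apply, hb, ha]
      inv_mem' := fun {a} (ha : ρ a w = w) => by
        show ρ a⁻¹ w = w
        conv_lhs => rw [← ha, ← Module.End.mul_apply, ← map_mul, inv_mul_cancel, map_one,
          Module.End.one_apply] }
  have hfix : ∀ z : Z, ρ ((z : S) : G) w = w := fun z => by
    obtain ⟨j, hj⟩ := Subgroup.mem_zpowers_iff.mp z.2
    rw [← hj, Subgroup.coe_zpow]
    exact fix.zpow_mem hw j
  simp only [Subgroup.coe_mul, map_mul, Module.End.mul_apply, hfix, Finset.sum_const,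
    Finset.card_univ]
  rw [← Nat.cast_smul_eq_nsmul k, ← Nat.card_eq_fintype_card,
    (CharP.cast_eq_zero_iff k p _).mpr, zero_smul]
  rw [Nat.card_zpowers]
  obtain ⟨j, hj⟩ := IsPGroup.iff_orderOf.mp hS ⟨u, hu⟩
  rw [hj]
  refine dvd_pow_self p fun h0 => hu1 ?_
  rw [h0, pow_zero, orderOf_eq_one_iff] at hj
  exact congrArg Subtype.val hj

theorem exists_common_eigen [IsAlgClosed k] [FiniteDimensional k V₀] (T : Subgroup G)
    (hT : ∀ a ∈ T, ∀ b ∈ T, a * b = b * a) (W : Submodule k V₀) (hW0 : W ≠ ⊥)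
    (hW : ∀ t ∈ T, ∀ v ∈ W, ρ t v ∈ W) :
    ∃ f ∈ W, f ≠ 0 ∧ ∀ t ∈ T, ∃ c : k, ρ t f = c • f := by
  classical
  haveI := Fintype.ofFinite T
  suffices H : ∀ s : Finset T, ∃ W' : Submodule k V₀, W' ≤ W ∧ W' ≠ ⊥ ∧
      (∀ t ∈ T, ∀ v ∈ W', ρ t v ∈ W') ∧ ∀ t ∈ s, ∃ c : k, ∀ v ∈ W', ρ (t : G) v = c • v by
    obtain ⟨W', hle, hne, -, hs⟩ := H Finset.univ
    obtain ⟨f, hf, hf0⟩ := Submodule.exists_mem_ne_zero_of_ne_bot hne
    refine ⟨f, hle hf, hf0, fun t ht => ?_⟩
    obtain ⟨c, hc⟩ := hs ⟨t, ht⟩ (Finset.mem_univ _)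
    exact ⟨c, hc f hf⟩
  intro s
  induction s using Finset.induction with
  | empty => exact ⟨W, le_rfl, hW0, hW, by simp⟩
  | insert t s _ ih =>
    obtain ⟨W', hle, hne, hinv, hs⟩ := ih
    haveI : Nontrivial W' := Submodule.nontrivial_iff_ne_bot.mpr hne
    obtain ⟨c, hc⟩ := Module.End.exists_eigenvalue ((ρ (t : G)).restrict (hinv t t.2))
    obtain ⟨w, hw⟩ := hc.exists_hasEigenvector
    refine ⟨W' ⊓ Module.End.eigenspace (ρ (t : G)) c, inf_le_left.trans hle, ?_, ?_, ?_⟩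
    · intro hbot
      refine hw.2 (Subtype.ext ?_)
      have e : ρ (t : G) (w : V₀) = c • (w : V₀) := congrArg Subtype.val hw.apply_eq_smul
      have : (w : V₀) ∈ W' ⊓ Module.End.eigenspace (ρ (t : G)) c :=
        ⟨w.2, Module.End.mem_eigenspace_iff.mpr e⟩
      rwa [hbot, Submodule.mem_bot] at this
    · rintro u hu v ⟨hv, hv'⟩
      refine ⟨hinv u hu v hv, Module.End.mem_eigenspace_iff.mpr ?_⟩
      rw [← Module.End.mul_apply, ← map_mul, hT _ t.2 u hu, map_mul, Module.End.mul_apply,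
        Module.End.mem_eigenspace_iff.mp hv', map_smul]
    · intro u hu
      rcases Finset.mem_insert.mp hu with rfl | hu
      · exact ⟨c, fun v hv => Module.End.mem_eigenspace_iff.mp hv.2⟩
      · obtain ⟨c', hc'⟩ := hs u hu
        exact ⟨c', fun v hv => hc' v hv.1⟩

end Norm

/-- A split configuration: `B = U T`, `G = B N B`, a rank one subgroup for each index, and the
opposite unipotent group `V`. -/
structure SplitData (p : ℕ) (G : Type*) [Group G] (F : Type*) [Field F] (ι : Type*) where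
  U : Subgroup G
  V : Subgroup G
  T : Subgroup G
  B : Subgroup G
  N : Subgroup G
  U' : ι → Subgroup G
  x : ι → F → G
  y : ι → F → G
  h : ι → Fˣ →* G
  n : ι → G
  U_pgroup : IsPGroup p U
  V_pgroup : IsPGroup p V
  card_V : Nat.card V = Nat.card U
  card_U : Nat.card U = p ^ (Nat.card G).factorization p
  mem_B : ∀ b, b ∈ B ↔ ∃ u ∈ U, ∃ t ∈ T, b = u * t
  cells : ∀ g, ∃ a ∈ B, ∃ m ∈ N, ∃ c ∈ B, g = a * m * c
  T_comm : ∀ a ∈ T, ∀ b ∈ T, a * b = b * a
  N_T : ∀ m ∈ N, ∀ t ∈ T, m * t * m⁻¹ ∈ T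
  T_U : ∀ t ∈ T, ∀ u ∈ U, t * u * t⁻¹ ∈ U
  T_V : ∀ t ∈ T, ∀ v ∈ V, t * v * t⁻¹ ∈ V
  n_mem : ∀ i, n i ∈ N
  rankOne : ∀ i, RankOne (x i) (y i) (h i) (n i)
  x_mem : ∀ i a, x i a ∈ U
  y_mem : ∀ i a, y i a ∈ V
  h_mem : ∀ i a, h i a ∈ T
  T_gen : T ≤ Subgroup.closure (⋃ i, Set.range (h i))
  U'_le : ∀ i, U' i ≤ U
  U_decomp : ∀ i, ∀ u ∈ U, ∃ u' ∈ U' i, ∃ a, u = u' * x i a
  x_unique : ∀ i a, x i a ∈ U' i → a = 0
  n_U' : ∀ i, ∀ u ∈ U' i, n i * u * (n i)⁻¹ ∈ U' i
  x_U' : ∀ i a, ∀ u ∈ U' i, x i a * u * (x i a)⁻¹ ∈ U' i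
  V_decomp : ∀ i, ∀ v ∈ V, ∃ v', n i * v' * (n i)⁻¹ ∈ V ∧ ∃ b, v = v' * y i b
  gen : ⊤ ≤ Subgroup.closure ((V : Set G) ∪ T ∪ Set.range n)
  N_cases : ∀ m ∈ N, (∃ u ∈ U, u ≠ 1 ∧ m⁻¹ * u * m ∈ U) ∨ ∀ i a, m⁻¹ * y i a * m ∈ U

namespace SplitData

variable {p : ℕ} {G : Type*} [Group G] [Fintype G] {F : Type*} [Field F] [Fintype F] [DecidableEq F]
  {ι : Type*} (D : SplitData p G F ι)

theorem x_zero (i : ι) : D.x i 0 = 1 := (D.rankOne i).x_zero

theorem x_neg (i : ι) (a : F) : D.x i (-a) = (D.x i a)⁻¹ := by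
  rw [eq_inv_iff_mul_eq_one, ← (D.rankOne i).x_add, neg_add_cancel, D.x_zero]

theorem x_inj (i : ι) : Function.Injective (D.x i) := fun a b e => by
  refine sub_eq_zero.mp (D.x_unique i (a - b) ?_)
  rw [sub_eq_add_neg, (D.rankOne i).x_add, e, ← (D.rankOne i).x_add, add_neg_cancel, D.x_zero]
  exact one_mem _

theorem n_sq_comm (i : ι) (t : F) : D.n i * D.n i * D.x i t = D.x i t * (D.n i * D.n i) := by
  rw [(D.rankOne i).sq]; exact (D.rankOne i).h_sq_comm t

theorem n_conj_y (i : ι) (t : F) : D.n i * D.y i t * (D.n i)⁻¹ = D.x i (-t) := by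
  have h1 := (D.rankOne i).nx (-t)
  rw [neg_neg] at h1
  rw [← h1]
  calc D.n i * (D.n i * D.x i (-t) * (D.n i)⁻¹) * (D.n i)⁻¹
      = (D.n i * D.n i * D.x i (-t)) * (D.n i * D.n i)⁻¹ := by group
    _ = D.x i (-t) := by rw [D.n_sq_comm, mul_inv_cancel_right]

theorem y_inj (i : ι) : Function.Injective (D.y i) := fun a b e => by
  have h := D.n_conj_y i a
  rw [e, D.n_conj_y] at h
  exact (neg_injective (D.x_inj i h)).symm

theorem n_y (i : ι) (t : F) : D.n i * D.y i t = D.x i (-t) * D.n i := by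
  rw [← D.n_conj_y i t, inv_mul_cancel_right]

theorem n_x (i : ι) (t : F) : D.n i * D.x i t = D.y i (-t) * D.n i := by
  rw [← (D.rankOne i).nx t, inv_mul_cancel_right]

/-- `n x(a)` rewritten with an upper, a torus and a lower factor. -/
theorem n_x_eq (i : ι) (u : Fˣ) :
    D.n i * D.x i (u : F)⁻¹ = D.x i (-(u : F)) * D.h i (-u) * D.y i (u : F) := by
  have hk := (D.rankOne i).key u
  have hy : D.y i (-(u : F)⁻¹) = D.x i (-(u : F)) * (D.h i u * D.n i) * D.x i (-(u : F)) := by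
    rw [← hk, D.x_neg]; group
  have hc : D.y i (u : F) * (D.n i * D.n i) = D.n i * D.n i * D.y i (u : F) := by
    calc D.y i (u : F) * (D.n i * D.n i)
        = (D.n i * D.x i (-(u : F)) * (D.n i)⁻¹) * (D.n i * D.n i) := by
          rw [(D.rankOne i).nx, neg_neg]
      _ = D.n i * (D.x i (-(u : F)) * D.n i) := by group
      _ = D.n i * (D.n i * D.y i (u : F)) := by rw [D.n_y]
      _ = _ := by group
  rw [D.n_x, hy]
  calc D.x i (-(u : F)) * (D.h i u * D.n i) * D.x i (-(u : F)) * D.n i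
      = D.x i (-(u : F)) * D.h i u * (D.n i * (D.x i (-(u : F)) * D.n i)) := by group
    _ = D.x i (-(u : F)) * D.h i u * (D.n i * D.n i * D.y i (u : F)) := by rw [← D.n_y]; group
    _ = _ := by
      rw [(D.rankOne i).sq, show (-u : Fˣ) = u * -1 by rw [mul_neg_one], map_mul]
      group

/-- `n y(b)` rewritten with a lower, a torus and an upper factor. -/
theorem n_y_eq (i : ι) (w : Fˣ) :
    D.n i * D.y i (-(w : F)⁻¹) =
      D.y i (w : F) * (D.n i * D.h i w * D.n i) * D.x i (-(w : F)) := by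
  have hk := (D.rankOne i).key w
  have e1 : D.y i (-(w : F)) * D.x i (w : F)⁻¹ * D.y i (-(w : F)) = D.n i * D.h i w := by
    have := congrArg (fun g => D.n i * g * (D.n i)⁻¹) hk
    simp only [show D.n i * (D.h i w * D.n i) * (D.n i)⁻¹ = D.n i * D.h i w by group] at this
    rw [← this]
    calc D.y i (-(w : F)) * D.x i (w : F)⁻¹ * D.y i (-(w : F))
        = (D.n i * D.x i (w : F) * (D.n i)⁻¹) * (D.n i * D.y i (-(w : F)⁻¹) * (D.n i)⁻¹) *
          (D.n i * D.x i (w : F) * (D.n i)⁻¹) := by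
          rw [(D.rankOne i).nx, D.n_conj_y, neg_neg]
      _ = _ := by group
  have hy1 : (D.y i (-(w : F)))⁻¹ = D.y i (w : F) := by
    refine (eq_inv_iff_mul_eq_one.mpr ?_).symm
    rw [← (D.rankOne i).y_add, add_neg_cancel]
    have := (D.rankOne i).y_add 0 0
    rwa [add_zero, left_eq_mul] at this
  have hy2 : D.y i (w : F) * D.n i = D.n i * D.x i (-(w : F)) := by rw [D.n_x, neg_neg]
  rw [D.n_y, neg_neg,
    show D.x i (w : F)⁻¹ = (D.y i (-(w : F)))⁻¹ * (D.n i * D.h i w) * (D.y i (-(w : F)))⁻¹ by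
      rw [← e1]; group, hy1]
  calc D.y i (w : F) * (D.n i * D.h i w) * D.y i (w : F) * D.n i
      = D.y i (w : F) * (D.n i * D.h i w) * (D.y i (w : F) * D.n i) := by group
    _ = _ := by rw [hy2]; group

theorem n_conj_x_inv (i : ι) (b : F) : (D.n i)⁻¹ * D.x i b * D.n i = D.y i (-b) := by
  rw [mul_assoc, show D.x i b * D.n i = D.n i * D.y i (-b) by rw [D.n_y, neg_neg],
    inv_mul_cancel_left]

section Rep

variable {k V₀ : Type*} [Field k] [AddCommGroup V₀] [Module k V₀] (ρ : Representation k G V₀)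

theorem nrm_split (i : ι) [Fintype (D.U' i)] (w : V₀) :
    nrm ρ D.U w = ∑ b : F, ∑ u : D.U' i, ρ ((u : G) * D.x i b) w := by
  haveI := Fintype.ofFinite D.U
  rw [nrm_apply, ← Fintype.sum_prod_type' (f := fun b (u : D.U' i) => ρ ((u : G) * D.x i b) w)]
  refine (Fintype.sum_bijective (fun bu : F × D.U' i =>
    (⟨(bu.2 : G) * D.x i bu.1, mul_mem (D.U'_le i bu.2.2) (D.x_mem i bu.1)⟩ : D.U))
    ⟨?_, ?_⟩ _ _ fun _ => rfl).symm
  · rintro ⟨b, u⟩ ⟨b', u'⟩ e
    have e' : (u : G) * D.x i b = (u' : G) * D.x i b' := congrArg Subtype.val e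
    have hm : D.x i (b + -b') ∈ D.U' i := by
      rw [(D.rankOne i).x_add, D.x_neg,
        show D.x i b = (u : G)⁻¹ * ((u' : G) * D.x i b') by rw [← e', inv_mul_cancel_left],
        mul_assoc, mul_inv_cancel_right]
      exact mul_mem (inv_mem u.2) u'.2
    have hb : b = b' := by
      have := D.x_unique i _ hm
      rwa [← sub_eq_add_neg, sub_eq_zero] at this
    subst hb
    exact Prod.ext rfl (Subtype.ext (mul_right_cancel e'))
  · rintro ⟨u, hu⟩
    obtain ⟨u', hu', a, rfl⟩ := D.U_decomp i u hu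
    exact ⟨(a, ⟨u', hu'⟩), rfl⟩

theorem nrm_split' (i : ι) [Fintype (D.U' i)] (w : V₀) :
    nrm ρ D.U w = ∑ b : F, ∑ u : D.U' i, ρ (D.x i b * (u : G)) w := by
  rw [D.nrm_split ρ i]
  refine Finset.sum_congr rfl fun b _ => ?_
  refine (Fintype.sum_bijective (fun u : D.U' i =>
    (⟨D.x i b * u * (D.x i b)⁻¹, D.x_U' i b u u.2⟩ : D.U' i)) ?_ _ _ fun u => ?_).symm
  · exact Finite.injective_iff_bijective.mp fun a c e => by
      simpa using congrArg (Subtype.val : D.U' i → G) e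
  · simp only [inv_mul_cancel_right]

theorem sum_zero_units {X : Type*} [AddCommMonoid X] (f : F → X) :
    ∑ a, f a = f 0 + ∑ u : Fˣ, f (u : F) := by
  classical
  rw [← Finset.add_sum_erase Finset.univ f (Finset.mem_univ 0)]
  congr 1
  exact Finset.sum_bij' (fun a ha => Units.mk0 a (Finset.ne_of_mem_erase ha)) (fun u _ => (u : F))
    (by simp) (fun u _ => Finset.mem_erase.mpr ⟨u.ne_zero, Finset.mem_univ _⟩) (by simp)
    (fun u _ => Units.ext rfl) (fun a ha => rfl)

/-- The operator `∑ x(b) n` on a `U`-norm. -/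
theorem hecke_eq (i : ι) {g₀ : V₀} (hy : ∀ a, ρ (D.y i a) g₀ = g₀) [CharP k p] [Fact p.Prime] :
    ∑ b : F, ρ (D.x i b * D.n i) (nrm ρ D.U g₀) =
      ∑ u : Fˣ, ρ (D.h i u) (nrm ρ D.U g₀) := by
  haveI := Fintype.ofFinite (D.U' i)
  have key : ∀ a : F, ∑ b : F, ∑ u : D.U' i, ρ (D.x i b * D.n i) (ρ ((u : G) * D.x i a) g₀) =
      nrm ρ D.U (ρ (D.n i * D.x i a) g₀) := by
    intro a
    rw [D.nrm_split' ρ i]
    refine Finset.sum_congr rfl fun b _ => ?_
    refine Fintype.sum_bijective (fun u : D.U' i =>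
      (⟨D.n i * u * (D.n i)⁻¹, D.n_U' i u u.2⟩ : D.U' i)) ?_ _ _ fun u => ?_
    · exact Finite.injective_iff_bijective.mp fun a c e => by
        simpa using congrArg (Subtype.val : D.U' i → G) e
    · simp only [← Module.End.mul_apply, ← map_mul]
      congr 2
      group
  rw [show ∑ b : F, ρ (D.x i b * D.n i) (nrm ρ D.U g₀) =
      ∑ a : F, nrm ρ D.U (ρ (D.n i * D.x i a) g₀) from ?_]
  swap
  · simp only [← key, D.nrm_split ρ i g₀, map_sum]
    rw [Finset.sum_comm]
  rw [sum_zero_units]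
  have h0 : nrm ρ D.U (ρ (D.n i * D.x i 0) g₀) = 0 := by
    rw [D.x_zero, mul_one]
    refine nrm_eq_zero_of_fixed ρ D.U_pgroup (D.x_mem i 1) (fun e => one_ne_zero (α := F)
      (D.x_inj i (e.trans (D.x_zero i).symm))) ?_
    rw [← Module.End.mul_apply, ← map_mul,
      show D.x i 1 * D.n i = D.n i * D.y i (-1) by rw [D.n_y, neg_neg],
      map_mul, Module.End.mul_apply, hy]
  rw [h0, zero_add]
  refine Fintype.sum_equiv ((Equiv.inv Fˣ).trans (Equiv.neg Fˣ)) _ _ fun u => ?_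
  simp only [Equiv.trans_apply, Equiv.inv_apply, Equiv.neg_apply]
  rw [show (u : F) = ((u⁻¹ : Fˣ) : F)⁻¹ by rw [Units.val_inv_eq_inv_val, inv_inv], D.n_x_eq,
    map_mul, map_mul, Module.End.mul_apply, Module.End.mul_apply, hy, nrm_apply_mem ρ (D.x_mem i _),
    nrm_conj ρ (D.T_U _ (D.h_mem i _))]

end Rep

variable {O : Subring ℂ} {k : Type*} [Field k] [IsAlgClosed k] {r : O →+* k} {χ : G → ℂ} {d : ℕ}
  {A : G →* Matrix (Fin d) (Fin d) O}

/-- A norm fixed by `B` and moved by all fundamental elements; the degree is `|U|`. -/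
theorem exists_borel_vector [Fintype D.U] [CharP F p] (hA : IsZeroDefectForm r p χ A) :
    d = Nat.card D.U ∧ ∃ w : Fin d → k, ∑ u : D.U, redForm r A (u : G) w ≠ 0 ∧
      (∀ b ∈ D.B, redForm r A b (∑ u : D.U, redForm r A (u : G) w) =
        ∑ u : D.U, redForm r A (u : G) w) ∧
      ∀ i, redForm r A (D.n i) (∑ u : D.U, redForm r A (u : G) w) ≠
        ∑ u : D.U, redForm r A (u : G) w := by
  haveI : Fact p.Prime := ⟨hA.prime⟩
  haveI := hA.charP
  simp only [← nrm_apply]
  set ρ := redForm r A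
  obtain ⟨v₀, hv₀, hfix₀⟩ := hA.exists_fixed D.U_pgroup
  obtain ⟨g, hg⟩ : ∃ g, nrm ρ D.U (ρ g v₀) ≠ 0 := by
    by_contra hall
    push Not at hall
    have htop := hA.eq_top_of_invariant (W := Submodule.span k (Set.range fun g => ρ g v₀))
      (fun g x hx => by
        induction hx using Submodule.span_induction with
        | mem x hx =>
          obtain ⟨g', rfl⟩ := hx
          exact Submodule.subset_span ⟨g * g', by simp [ρ, Module.End.mul_apply]⟩
        | zero => rw [map_zero]; exact Submodule.zero_mem _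
        | add x y _ _ hx hy => rw [map_add]; exact Submodule.add_mem _ hx hy
        | smul c x _ hx => rw [map_smul]; exact Submodule.smul_mem _ c hx)
      (Submodule.subset_span ⟨1, by simp⟩) hv₀
    have hker : Submodule.span k (Set.range fun g => ρ g v₀) ≤ LinearMap.ker (nrm ρ D.U) :=
      Submodule.span_le.mpr (by rintro _ ⟨g, rfl⟩; exact hall g)
    obtain ⟨y, hy⟩ := hA.exists_norm_ne_zero D.U D.U_pgroup
    have : nrm ρ D.U y = 0 := hker (htop ▸ Submodule.mem_top)
    rw [nrm_apply] at this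
    exact hy this
  obtain ⟨a, ha, m, hm, c, hc, rfl⟩ := D.cells g
  obtain ⟨u₁, hu₁, t₁, ht₁, rfl⟩ := (D.mem_B a).mp ha
  obtain ⟨u₂, hu₂, t₂, ht₂, rfl⟩ := (D.mem_B c).mp hc
  let FU : Submodule k (Fin d → k) := ⨅ u : D.U, LinearMap.ker (ρ (u : G) - 1)
  have hFU : ∀ {v}, v ∈ FU ↔ ∀ u ∈ D.U, ρ u v = v := by
    simp [FU, Submodule.mem_iInf, sub_eq_zero]
  have hTFU : ∀ t ∈ D.T, ∀ v ∈ FU, ρ t v ∈ FU := by
    intro t ht v hv
    refine hFU.mpr fun u hu => ?_
    rw [← Module.End.mul_apply, ← map_mul, show u * t = t * (t⁻¹ * u * t⁻¹⁻¹) by group, map_mul,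
      Module.End.mul_apply, hFU.mp hv _ (D.T_U _ (inv_mem ht) u hu)]
  set v := ρ t₂ v₀ with hv
  have hvFU : v ∈ FU := hTFU t₂ ht₂ _ (hFU.mpr hfix₀)
  have hmv : nrm ρ D.U (ρ m v) ≠ 0 := by
    intro h0
    apply hg
    simp only [map_mul, Module.End.mul_apply]
    rw [← hv, hFU.mp hvFU _ hu₂, nrm_apply_mem ρ hu₁, ← nrm_conj ρ (D.T_U _ ht₁), h0, map_zero]
  have hmy : ∀ w ∈ FU, ∀ i a, ρ (D.y i a) (ρ m w) = ρ m w := by
    intro w hw i a
    rcases D.N_cases m hm with ⟨u, hu, hu1, hum⟩ | hy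
    · refine absurd (nrm_eq_zero_of_fixed ρ D.U_pgroup hu hu1 ?_) hmv
      rw [← Module.End.mul_apply, ← map_mul, show u * m = m * (m⁻¹ * u * m) by group, map_mul,
        Module.End.mul_apply, hFU.mp hvFU _ hum]
    · rw [← Module.End.mul_apply, ← map_mul,
        show D.y i a * m = m * (m⁻¹ * D.y i a * m) by group, map_mul, Module.End.mul_apply,
        hFU.mp hw _ (hy i a)]
  let Φ : (Fin d → k) →ₗ[k] (Fin d → k) := nrm ρ D.U ∘ₗ ρ m
  have hW0 : FU.map Φ ≠ ⊥ := fun e => hmv (by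
    have : Φ v ∈ FU.map Φ := Submodule.mem_map_of_mem hvFU
    rwa [e, Submodule.mem_bot] at this)
  obtain ⟨f, hfW, hf0, heig⟩ := exists_common_eigen ρ D.T D.T_comm (FU.map Φ) hW0 (by
    rintro t ht _ ⟨w, hw, rfl⟩
    have ht' : m⁻¹ * t * m⁻¹⁻¹ ∈ D.T := D.N_T _ (inv_mem hm) t ht
    refine ⟨ρ (m⁻¹ * t * m⁻¹⁻¹) w, hTFU _ ht' w hw, ?_⟩
    show nrm ρ D.U (ρ m (ρ (m⁻¹ * t * m⁻¹⁻¹) w)) = ρ t (nrm ρ D.U (ρ m w))
    rw [nrm_conj ρ (D.T_U t ht)]
    congr 1
    rw [← Module.End.mul_apply, ← map_mul, ← Module.End.mul_apply, ← map_mul]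
    congr 2
    group)
  obtain ⟨w, hw, hwf⟩ := hfW
  set g₀ := ρ m w
  have hf : nrm ρ D.U g₀ = f := hwf
  have hfU : ∀ u ∈ D.U, ρ u f = f := fun u hu => by rw [← hf, apply_nrm ρ hu]
  -- the span of the translates by `V`
  let S : Submodule k (Fin d → k) := Submodule.span k (Set.range fun v : D.V => ρ (v : G) f)
  have hTf : ∀ t ∈ D.T, ∀ v ∈ D.V, ρ (v * t) f ∈ S := fun t ht v hv => by
    obtain ⟨c, hc⟩ := heig t ht
    rw [map_mul, Module.End.mul_apply, hc, map_smul]
    exact S.smul_mem _ (Submodule.subset_span ⟨⟨v, hv⟩, rfl⟩)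
  have hfS : f ∈ S := Submodule.subset_span ⟨1, by simp⟩
  have hnyf : ∀ i (b : F), b ≠ 0 → ρ (D.n i * D.y i b) f ∈ S := by
    intro i b hb
    let w : Fˣ := -(Units.mk0 b hb)⁻¹
    have e : b = -(w : F)⁻¹ := by simp [w, inv_neg]
    rw [e, D.n_y_eq, map_mul, Module.End.mul_apply, hfU _ (D.x_mem i _)]
    refine hTf _ ?_ _ (D.y_mem i _)
    rw [show D.n i * D.h i w * D.n i = D.n i * D.h i w * (D.n i)⁻¹ * (D.n i * D.n i) by group,
      (D.rankOne i).sq]
    exact mul_mem (D.N_T _ (D.n_mem i) _ (D.h_mem i w)) (D.h_mem i _)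
  have hhecke : ∀ i, ρ (D.n i) (∑ b : F, ρ (D.y i b) f) = ∑ u : Fˣ, ρ (D.h i u) f := by
    intro i
    rw [← hf, ← D.hecke_eq ρ i (hmy w hw i), map_sum]
    refine Fintype.sum_equiv (Equiv.neg F) _ _ fun b => ?_
    rw [← Module.End.mul_apply, ← map_mul, D.n_y, Equiv.neg_apply]
  have hnf : ∀ i, ρ (D.n i) f ∈ S := by
    intro i
    have h1 := hhecke i
    rw [map_sum, sum_zero_units] at h1
    have hy0 : D.y i 0 = 1 := by
      have := (D.rankOne i).y_add 0 0
      rwa [add_zero, left_eq_mul] at this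
    rw [hy0, map_one, Module.End.one_apply, ← eq_sub_iff_add_eq] at h1
    rw [h1]
    refine Submodule.sub_mem _ (Submodule.sum_mem _ fun u _ => ?_) (Submodule.sum_mem _ fun u _ => ?_)
    · have := hTf _ (D.h_mem i u) 1 (one_mem _)
      rwa [one_mul] at this
    · rw [← Module.End.mul_apply, ← map_mul]
      exact hnyf i _ u.ne_zero
  let stab : Subgroup G :=
    { carrier := {g | ∀ s ∈ S, ρ g s ∈ S}
      one_mem' := fun s hs => by simpa using hs
      mul_mem' := fun {a b} ha hb s hs => by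
        rw [map_mul, Module.End.mul_apply]; exact ha _ (hb s hs)
      inv_mem' := fun {a} ha s hs => by
        have hp : ∀ j, ρ (a ^ j) s ∈ S := by
          intro j
          induction j with
          | zero => simpa using hs
          | succ j ih => rw [pow_succ', map_mul, Module.End.mul_apply]; exact ha _ ih
        rw [inv_eq_of_mul_eq_one_right (b := a ^ (orderOf a - 1)) (by
          rw [← pow_succ', Nat.sub_add_cancel (orderOf_pos a), pow_orderOf_eq_one])]
        exact hp _ }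
  have hVS : ∀ v ∈ D.V, v ∈ stab := by
    intro v hv s hs
    induction hs using Submodule.span_induction with
    | mem x hx =>
      obtain ⟨v', rfl⟩ := hx
      exact Submodule.subset_span ⟨⟨v * v', mul_mem hv v'.2⟩, by simp [Module.End.mul_apply]⟩
    | zero => rw [map_zero]; exact S.zero_mem
    | add x y _ _ hx hy => rw [map_add]; exact S.add_mem hx hy
    | smul c x _ hx => rw [map_smul]; exact S.smul_mem c hx
  have hgens : ∀ g, (∀ v ∈ D.V, ρ (g * v) f ∈ S) → g ∈ stab := by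
    intro g hg s hs
    induction hs using Submodule.span_induction with
    | mem x hx =>
      obtain ⟨v', rfl⟩ := hx
      show ρ g (ρ (v' : G) f) ∈ S
      rw [← Module.End.mul_apply, ← map_mul]
      exact hg _ v'.2
    | zero => rw [map_zero]; exact S.zero_mem
    | add x y _ _ hx hy => rw [map_add]; exact S.add_mem hx hy
    | smul c x _ hx => rw [map_smul]; exact S.smul_mem c hx
  have hstab : ⊤ ≤ stab := D.gen.trans ((Subgroup.closure_le _).mpr (by
    rintro g ((hg | hg) | ⟨i, rfl⟩)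
    · exact hVS g hg
    · refine hgens g fun v hv => ?_
      rw [show g * v = g * v * g⁻¹ * g by group]
      exact hTf g hg _ (D.T_V g hg v hv)
    · refine hgens _ fun v hv => ?_
      obtain ⟨v', hv', b, rfl⟩ := D.V_decomp i v hv
      rw [show D.n i * (v' * D.y i b) = D.n i * v' * (D.n i)⁻¹ * (D.n i * D.y i b) by group,
        map_mul, Module.End.mul_apply]
      refine hVS _ hv' _ ?_
      rcases eq_or_ne b 0 with rfl | hb
      · have hy0 : D.y i 0 = 1 := by
          have := (D.rankOne i).y_add 0 0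
          rwa [add_zero, left_eq_mul] at this
        rw [hy0, mul_one]; exact hnf i
      · exact hnyf i b hb))
  have hStop : S = ⊤ := hA.eq_top_of_invariant (fun g s hs => hstab (Subgroup.mem_top g) s hs)
    hfS hf0
  have hcard : d = Nat.card D.U := by
    haveI := Fintype.ofFinite D.V
    have h1 : d ≤ Nat.card D.V := by
      have := finrank_range_le_card (R := k) (fun v : D.V => ρ (v : G) f)
      rw [Set.finrank, show Submodule.span k (Set.range fun v : D.V => ρ (v : G) f) = ⊤ from hStop,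
        finrank_top, Module.finrank_fin_fun, ← Nat.card_eq_fintype_card] at this
      exact this
    rw [D.card_V] at h1
    exact le_antisymm h1 (Nat.le_of_dvd (Nat.pos_of_ne_zero hA.deg_ne_zero) (D.card_U ▸ hA.dvd))
  have hNV : nrm ρ D.V f ≠ 0 := by
    intro h0
    haveI := Fintype.ofFinite D.V
    obtain ⟨y, hy⟩ := hA.exists_norm_ne_zero D.V D.V_pgroup
    have hker : S ≤ LinearMap.ker (nrm ρ D.V) := Submodule.span_le.mpr (by
      rintro _ ⟨v, rfl⟩
      show nrm ρ D.V (ρ (v : G) f) = 0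
      rw [nrm_apply_mem ρ v.2, h0])
    have : nrm ρ D.V y = 0 := hker (hStop ▸ Submodule.mem_top)
    rw [nrm_apply] at this
    exact hy this
  have hNY : ∀ i, ∑ b : F, ρ (D.y i b) f ≠ 0 := by
    intro i h0
    apply hNV
    haveI := Fintype.ofFinite D.V
    have y0 : D.y i 0 = 1 := by
      have := (D.rankOne i).y_add 0 0
      rwa [add_zero, left_eq_mul] at this
    let Y : Subgroup D.V :=
      { carrier := Set.range fun b => (⟨D.y i b, D.y_mem i b⟩ : D.V)
        one_mem' := ⟨0, Subtype.ext y0⟩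
        mul_mem' := by
          rintro _ _ ⟨a, rfl⟩ ⟨b, rfl⟩
          exact ⟨a + b, Subtype.ext ((D.rankOne i).y_add a b)⟩
        inv_mem' := by
          rintro _ ⟨a, rfl⟩
          refine ⟨-a, eq_inv_of_mul_eq_one_left (Subtype.ext ?_)⟩
          show D.y i (-a) * D.y i a = 1
          rw [← (D.rankOne i).y_add, neg_add_cancel, y0] }
    haveI := Fintype.ofFinite Y
    haveI := Fintype.ofFinite (↥D.V ⧸ Y)
    rw [nrm_apply, sum_cosets Y]
    refine Finset.sum_eq_zero fun q _ => ?_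
    simp only [Subgroup.coe_mul, map_mul, Module.End.mul_apply, ← map_sum]
    rw [show ∑ x : Y, ρ (((x : D.V) : G)) f = ∑ b : F, ρ (D.y i b) f from
      (Fintype.sum_bijective (fun b => (⟨⟨D.y i b, D.y_mem i b⟩, b, rfl⟩ : Y))
        ⟨fun a b e => D.y_inj i (congrArg (fun z : Y => ((z : D.V) : G)) e),
          fun ⟨_, b, hb⟩ => ⟨b, Subtype.ext hb⟩⟩ _ _ fun b => rfl).symm, h0, map_zero]
  have hh : ∀ i (u : Fˣ), ρ (D.h i u) f = f := by
    intro i u
    choose θ hθ using fun u : Fˣ => heig _ (D.h_mem i u)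
    have hinj : ∀ {a b : k}, a • f = b • f → a = b := fun e => smul_left_injective k hf0 e
    let ψ : Fˣ →* k :=
      { toFun := θ
        map_one' := hinj (by rw [← hθ, map_one, map_one, Module.End.one_apply, one_smul])
        map_mul' := fun a b => hinj (by
          rw [← hθ, map_mul, map_mul, Module.End.mul_apply, hθ, map_smul, hθ, smul_smul,
            mul_comm]) }
    by_cases hψ : ψ = 1
    · rw [hθ u, show θ u = 1 from DFunLike.congr_fun hψ u, one_smul]
    · refine absurd ?_ (hNY i)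
      have h1 := hhecke i
      rw [Finset.sum_congr rfl fun u _ => hθ u, ← Finset.sum_smul,
        show ∑ u : Fˣ, θ u = 0 from sum_hom_units_eq_zero ψ hψ, zero_smul] at h1
      have h2 := congrArg (ρ (D.n i)⁻¹) h1
      rwa [← Module.End.mul_apply, ← map_mul, inv_mul_cancel, map_one, Module.End.one_apply,
        map_zero] at h2
  have hT : ∀ t ∈ D.T, ρ t f = f := by
    intro t ht
    let fix : Subgroup G :=
      { carrier := {g | ρ g f = f}
        one_mem' := by simp
        mul_mem' := fun {a b} (ha : ρ a f = f) (hb : ρ b f = f) => by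
          show ρ (a * b) f = f
          rw [map_mul, Module.End.mul_apply, hb, ha]
        inv_mem' := fun {a} (ha : ρ a f = f) => by
          show ρ a⁻¹ f = f
          conv_lhs => rw [← ha, ← Module.End.mul_apply, ← map_mul, inv_mul_cancel, map_one,
            Module.End.one_apply] }
    exact (D.T_gen.trans ((Subgroup.closure_le fix).mpr (Set.iUnion_subset fun i => by
      rintro _ ⟨u, rfl⟩; exact hh i u))) ht
  refine ⟨hcard, g₀, by rw [hf]; exact hf0, fun b hb => ?_, fun i e => ?_⟩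
  · obtain ⟨u, hu, t, ht, rfl⟩ := (D.mem_B b).mp hb
    rw [hf, map_mul, Module.End.mul_apply, hT t ht, hfU u hu]
  · rw [hf] at e
    refine hNY i ?_
    have hy : ∀ b, ρ (D.y i b) f = f := fun b => by
      rw [← neg_neg b, ← (D.rankOne i).nx (-b), map_mul, map_mul, Module.End.mul_apply,
        Module.End.mul_apply]
      have e' : ρ (D.n i)⁻¹ f = f := by
        conv_lhs => rw [← e, ← Module.End.mul_apply, ← map_mul, inv_mul_cancel, map_one,
          Module.End.one_apply]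
      rw [e', hfU _ (D.x_mem i _), e]
    rw [Finset.sum_congr rfl fun b _ => hy b, Finset.sum_const, Finset.card_univ,
      ← Nat.cast_smul_eq_nsmul k, (CharP.cast_eq_zero_iff k p _).mpr, zero_smul]
    obtain ⟨e', -, he'⟩ := FiniteField.card F p
    rw [he']
    exact dvd_pow_self p e'.pos.ne'

end SplitData

end CfsgLib.DefectZero
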