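import Cfsg.Agent.Lib.DefectZero.Richen

/-!
# Characters of defect zero of split configurations are unique

A character of defect zero is determined by its average over the Borel subgroup, and that average
is determined by its vanishing on the minimal parabolic subgroups.
-/

set_option autoImplicit false
set_option linter.unusedSectionVars false
set_option linter.style.haveILetI false

noncomputable section

namespace CfsgLib.DefectZero

open Cfsg CfsgLib.Blocks CfsgLib.Char CfsgLib.Modular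
open scoped Matrix

variable {O : Subring ℂ} {k : Type*} [Field k] {r : O →+* k} {G : Type*} [Group G] [Fintype G]
  {p d : ℕ}

namespace IsZeroDefectForm

variable {χ : G → ℂ} {A : G →* Matrix (Fin d) (Fin d) O}

theorem sum_mul_eq_zero (h : IsZeroDefectForm r p χ A) {H : Subgroup G} [Fintype H]
    (h0 : ∑ y : H, χ (y : G) = 0) (g : G) : ∑ y : H, χ (g * (y : G)) = 0 := by
  have hP := isProj_average H A
  have htr := hP.trace
  rw [map_smul, h.sum_character, h0, smul_zero] at htr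
  have hzero : ((Nat.card H : ℂ)⁻¹ • ∑ y : H, liftRep A (y : G)) = 0 :=
    LinearMap.range_eq_bot.mp (Submodule.finrank_eq_zero.mp (by exact_mod_cast htr.symm))
  have hC : ∑ y : H, liftRep A (y : G) = 0 :=
    (smul_eq_zero.mp hzero).resolve_left (inv_ne_zero (Nat.cast_ne_zero.mpr Nat.card_pos.ne'))
  have e := congrArg (fun T => LinearMap.trace ℂ _ (liftRep A g * T)) hC
  simp only [mul_zero, map_zero, Finset.mul_sum, map_sum, ← map_mul] at e
  rw [← e]
  exact Finset.sum_congr rfl fun y _ => (congrFun h.char_eq (g * (y : G))).symm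

theorem sum_conj_mul (h : IsZeroDefectForm r p χ A) (g b : G) :
    ∑ x : G, χ (x * g * x⁻¹ * b) = ((Nat.card G / d : ℕ) : ℂ) * χ g * χ b := by
  have e := congrArg (fun M => O.subtype ((M * A b).trace)) (h.sum_conj (A g))
  simp only [Finset.sum_mul, Matrix.trace_sum, map_sum, Matrix.smul_mul, one_mul, Matrix.trace_smul,
    ← map_mul A] at e
  simp only [smul_eq_mul, map_mul O.subtype, map_natCast] at e
  simp only [Subring.subtype_apply, h.trace] at e
  simpa [mul_assoc] using e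

end IsZeroDefectForm

/-- In a split configuration whose Hecke relations force uniqueness, there is at most one character
of defect zero. -/
theorem eq_of_spherical {F : Type*} [Field F] [Fintype F] [DecidableEq F] {ι : Type*}
    [Fact p.Prime] [CharP F p] (D : SplitData p G F ι) (H : ι → Subgroup G) (hBH : ∀ i, D.B ≤ H i)
    (hnH : ∀ i, D.n i ∈ H i)
    (huniq : ∀ f : G → ℂ, (∀ b ∈ D.B, ∀ g, f (b * g) = f g) → (∀ b ∈ D.B, ∀ g, f (g * b) = f g) →
      (∀ (i : ι) (s : Finset G), (∀ y, y ∈ s ↔ y ∈ H i) → ∀ g, ∑ y ∈ s, f (g * y) = 0) →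
      f 1 = 0 → ∀ g, f g = 0)
    {χ χ' : G → ℂ} (hχ : IsIrrCharacter G χ) (hχ' : IsIrrCharacter G χ')
    (hdeg : ∃ n : ℕ, χ 1 = (n : ℂ) ∧ p ^ (Nat.card G).factorization p ∣ n)
    (hdeg' : ∃ n : ℕ, χ' 1 = (n : ℂ) ∧ p ^ (Nat.card G).factorization p ∣ n) :
    χ = χ' := by
  classical
  letI : Fintype D.U := Fintype.ofFinite _
  letI : Fintype D.B := Fintype.ofFinite _
  letI instH : ∀ i, Fintype (H i) := fun i => Fintype.ofFinite _
  have hUB : D.U ≤ D.B := fun u hu => (D.mem_B u).2 ⟨u, hu, 1, one_mem _, (mul_one u).symm⟩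
  have hidx : ¬ p ∣ D.U.relIndex D.B := fun hd => by
    have h1 : p * Nat.card D.U ∣ Nat.card G := by
      rw [← D.U.index_mul_card]
      exact Nat.mul_dvd_mul_right (hd.trans (Dvd.intro _ (Subgroup.relIndex_mul_index hUB))) _
    rw [D.card_U, ← pow_succ'] at h1
    exact Nat.pow_succ_factorization_not_dvd Nat.card_pos.ne' (Fact.out : p.Prime) h1
  have main : ∀ ψ : G → ℂ, IsIrrCharacter G ψ →
      (∃ n : ℕ, ψ 1 = (n : ℂ) ∧ p ^ (Nat.card G).factorization p ∣ n) →
      (∑ b : D.B, ψ (b : G) ≠ 0) ∧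
      (∀ (i : ι) (g : G), ∑ y : H i, ∑ b : D.B, ψ (g * (y : G) * (b : G)) = 0) ∧
      ∀ g b : G, ∑ x : G, ψ (x * g * x⁻¹ * b) =
        ((Nat.card G / Nat.card D.U : ℕ) : ℂ) * ψ g * ψ b := by
    intro ψ hψ hψdeg
    obtain ⟨k, _, _, O, r, d, A, hA⟩ := exists_zeroDefectForm (Fact.out : p.Prime) hψ hψdeg
    obtain ⟨hd, w, hw0, hwB, hwn⟩ := D.exists_borel_vector hA
    refine ⟨hA.sum_ne_zero hUB hidx hw0 hwB, fun i g => ?_, fun g b => ?_⟩
    · have h0 := hA.sum_eq_zero (hUB.trans (hBH i)) D.U_pgroup hd.symm (hnH i) (hwn i)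
      rw [Finset.sum_comm]
      refine Finset.sum_eq_zero fun b _ => ?_
      rw [← hA.sum_mul_eq_zero h0 g]
      refine Fintype.sum_equiv (Equiv.mulRight ⟨(b : G), hBH i b.2⟩) _ _ fun y => ?_
      simp [mul_assoc]
    · rw [← hd]; exact hA.sum_conj_mul g b
  obtain ⟨h1, h2, h3⟩ := main χ hχ hdeg
  obtain ⟨h1', h2', h3'⟩ := main χ' hχ' hdeg'
  let av : (G → ℂ) → G → ℂ := fun ψ g => ∑ b : D.B, ψ (g * (b : G))
  have hav1 : ∀ ψ : G → ℂ, av ψ 1 = ∑ b : D.B, ψ (b : G) := fun ψ => by simp [av]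
  have hr : ∀ (ψ : G → ℂ), ∀ b ∈ D.B, ∀ g, av ψ (g * b) = av ψ g := fun ψ b hb g =>
    Fintype.sum_equiv (Equiv.mulLeft ⟨b, hb⟩) _ _ fun x => by simp [mul_assoc]
  have hl : ∀ {ψ : G → ℂ}, IsIrrCharacter G ψ → ∀ b ∈ D.B, ∀ g, av ψ (b * g) = av ψ g :=
    fun {ψ} hψ b hb g => Fintype.sum_equiv (Equiv.mulRight ⟨b, hb⟩) _ _ fun x => by
      simp only [Equiv.coe_mulRight, Subgroup.coe_mul]
      rw [← mul_assoc g, CfsgLib.Char.char_mul_comm' (CfsgLib.Char.isCharacter_of_isIrr hψ) (g * (x : G)) b,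
        mul_assoc]
  let f : G → ℂ := fun g => av χ' 1 * av χ g - av χ 1 * av χ' g
  have hf := huniq f (fun b hb g => by simp only [f, hl hχ b hb g, hl hχ' b hb g])
    (fun b hb g => by simp only [f, hr χ b hb g, hr χ' b hb g])
    (fun i s hs g => by
      rw [Finset.sum_subtype (F := instH i) s hs (fun y => f (g * y))]
      simp only [f, Finset.sum_sub_distrib, ← Finset.mul_sum, av, h2 i g, h2' i g, mul_zero, sub_zero])
    (by simp only [f]; ring)
  have key : ∀ {ψ : G → ℂ}, (∀ g b : G, ∑ x : G, ψ (x * g * x⁻¹ * b) =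
        ((Nat.card G / Nat.card D.U : ℕ) : ℂ) * ψ g * ψ b) → ∀ g : G,
      ∑ x : G, av ψ (x * g * x⁻¹) = ((Nat.card G / Nat.card D.U : ℕ) : ℂ) * ψ g * av ψ 1 := by
    intro ψ hψ g
    simp only [av]
    rw [Finset.sum_comm]
    simp only [hψ, ← Finset.mul_sum, one_mul]
  funext g
  have e : ∑ x : G, f (x * g * x⁻¹) = 0 := Finset.sum_eq_zero fun x _ => hf _
  simp only [f, Finset.sum_sub_distrib, ← Finset.mul_sum, key h3 g, key h3' g, hav1] at e
  have hne : ((Nat.card G / Nat.card D.U : ℕ) : ℂ) ≠ 0 := by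
    rw [Nat.cast_ne_zero, ← D.U.index_mul_card, Nat.mul_div_cancel _ Nat.card_pos]
    exact D.U.index_ne_zero_of_finite
  have e2 : ((Nat.card G / Nat.card D.U : ℕ) : ℂ) * (∑ b : D.B, χ' (b : G)) * (∑ b : D.B, χ (b : G)) *
      (χ g - χ' g) = 0 := by linear_combination e
  exact sub_eq_zero.1 ((mul_eq_zero.1 e2).resolve_left (mul_ne_zero (mul_ne_zero hne h1') h1))

end CfsgLib.DefectZero
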